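import Cfsg.Agent.Lib.Classical.MinIndexPSp.Fix

/-!
What a subgroup of small index contains at a vector whose transvection group it does not contain.
-/

set_option autoImplicit false

namespace CfsgLib.Classical.MinIndexPSp

open LinearMap (BilinForm)
open CfsgLib.Classical.Symp
open scoped Pointwise

variable {F : Type*} [Field F] {V : Type*} [AddCommGroup V] [Module F V] {B : BilinForm F V}
  [Finite F] [FiniteDimensional F V]

theorem cases_at (hA : B.IsAlt) (hB : B.Nondegenerate) {d : ℕ}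
    (hd : Module.finrank F V = d + 2) (hd2 : d = 2 ∨ (4 ≤ d ∧ Even d)) (hq : 3 ≤ Nat.card F)
    (hq4 : d = 2 → 4 ≤ Nat.card F) (H : Subgroup (Sp B))
    (hN : (H.index + 1) * (Nat.card F - 1) + 1 ≤ Nat.card F ^ (d + 2)) (P : Pair B)
    (hv : ∃ c, tr hA P.v c ∉ H) :
    (∃ f', B P.v f' = 1 ∧ ∀ w, B P.v w = 0 → B f' w = 0 → ∀ c, tr hA w c ∈ H) ∨
    (d = 2 ∧ ∃ w, B P.v w = 0 ∧ w ∉ Submodule.span F {P.v} ∧ (∀ c, tr hA w c ∈ H) ∧
      ∀ r : F, mtr hA P.v (r • w) 1 ∈ H) ∨
    ((2 : F) = 0 ∧ ∀ w, B P.v w = 0 → ∃ a, mtr hA P.v w 1 * tr hA P.v a ∈ H) := by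
  classical
  have : Finite V := Module.finite_of_finite F
  have : Finite (V ≃ₗ[F] V) := Finite.of_injective _ DFunLike.coe_injective
  have hfix : ∀ g : Sp B, g • ((1 : Sp B) : Sp B ⧸ H) = ((1 : Sp B) : Sp B ⧸ H) ↔ g ∈ H :=
    fun g => by
      rw [MulAction.Quotient.smul_mk, smul_eq_mul, mul_one, QuotientGroup.eq, mul_one, inv_mem_iff]
  have hN' : (Nat.card (Sp B ⧸ H) + 1) * (Nat.card F - 1) + 1 ≤ Nat.card F ^ (d + 2) := hN
  generalize hω : ((1 : Sp B) : Sp B ⧸ H) = ω at hfix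
  clear hω
  have hmoved : fixA hA P.v ω ≠ ⊤ := by
    obtain ⟨c, hc⟩ := hv
    intro e
    exact hc ((hfix _).1 ((mem_fixA hA).1 (e ▸ AddSubgroup.mem_top c)))
  -- moving information from the orbit back to the base point
  have back : ∀ u ∈ P.Q hA, ∀ g : Sp B, g • u • ω = u • ω → u⁻¹ * g * u⁻¹⁻¹ ∈ H := by
    intro u _ g hg
    rw [← hfix, inv_inv, mul_smul, mul_smul, hg, inv_smul_smul]
  rcases P.classify hA hB hd hq hN' ω hmoved hd2 with ⟨h2, hall⟩ | ⟨hsL, hcase⟩
  · refine Or.inr (Or.inr ⟨h2, fun w hw => ?_⟩)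
    obtain ⟨z, hz, e⟩ := Pair.decomp hA (P := P) w
    rw [hw, zero_smul, add_zero] at e
    obtain ⟨-, a, ha⟩ : z ∈ P.W₀ hA ω := by rw [← SetLike.mem_coe, hall]; exact hz
    refine ⟨a, ?_⟩
    rw [e, add_comm, mtr_add_smul_self hA (Pair.vw hz), h2, zero_mul, tr_zero, mul_one]
    exact (hfix _).1 ha
  obtain ⟨horb, heven⟩ := P.rigid hA hB hd hq hN' ω hmoved hsL
  rcases hcase with hbot | ⟨hd', w, hw, hw0, hline⟩ | ⟨h2, u, hu, hu0, hd4, hhyp⟩
  · -- the projection is trivial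
    obtain ⟨u, hu, hk⟩ := P.exists_fixed hA hq ω horb heven (fun α w hw => by
      rw [hbot, AddSubgroup.mem_bot] at hw
      rw [hw, smul_zero]
      exact zero_mem _)
    have hstab : ∀ k : P.K hA, k • (P.W₀ hA ω : Set V) = P.W₀ hA ω := fun k => by
      rw [hbot, AddSubgroup.coe_bot, Set.smul_set_singleton]
      congr 1
      exact map_zero (ap (k : Sp B))
    have hq' : 4 ≤ Nat.card F ∨ (4 ≤ d ∧ (2 : F) ≠ 0) := by
      rcases Nat.lt_or_ge (Nat.card F) 4 with h | h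
      · refine Or.inr ⟨hd2.elim (fun e => absurd (hq4 e) (by omega)) And.left, fun h2 => ?_⟩
        have : Fintype F := Fintype.ofFinite F
        obtain ⟨p, hpc⟩ := CharP.exists F
        have : CharP F 2 := CharTwo.of_one_ne_zero_of_two_eq_zero one_ne_zero h2
        obtain ⟨n, -, hn⟩ := FiniteField.card F 2
        rw [← Nat.card_eq_fintype_card, show Nat.card F = 3 by omega] at hn
        have h3 : Even (3 : ℕ) := hn ▸ (Nat.even_pow.2 ⟨even_two, n.pos.ne'⟩)
        exact absurd h3 (by decide)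
      · exact Or.inl h
    have hu' : ap u⁻¹ P.v = P.v := P.Q_fix_v hA (inv_mem hu)
    refine Or.inl ⟨ap u⁻¹ P.f, ?_, fun w hw1 hw2 c => ?_⟩
    · conv_lhs => rw [← hu', ap_eq]
      exact P.vf
    have huw : ap u w ∈ P.W := by
      refine P.mem_W.2 ⟨?_, ?_⟩
      · rw [← P.Q_fix_v hA hu, ap_eq]; exact hw1
      · rw [← ap_apply_inv u P.f, ap_eq]; exact hw2
    obtain ⟨g, hg, h, hh, e⟩ := P.tr_eq_commutator hA hB hd hq' huw c
    obtain ⟨b, eb⟩ := hk ⟨g, hg⟩ (hstab _)
    obtain ⟨b', eb'⟩ := hk ⟨h, hh⟩ (hstab _)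
    have hx := comm_fix hA (Pair.K_fix hA hg P.v_mem) (Pair.K_fix hA hh P.v_mem) eb eb'
    rw [← e] at hx
    have := back u hu _ hx
    rwa [conj_tr, show ((u⁻¹ : Sp B) : V ≃ₗ[F] V) (ap u w) = w from ap_inv_apply u w] at this
  · -- the projection is a line
    have hmem : ∀ r : F, r • w ∈ P.W₀ hA ω := fun r => by
      rw [← SetLike.mem_coe, hline]
      exact Submodule.smul_mem _ _ (Submodule.mem_span_singleton_self w)
    obtain ⟨u, hu, hk⟩ := P.exists_fixed hA hq ω horb heven (fun α y hy => by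
      rw [← SetLike.mem_coe, hline] at hy ⊢
      exact Submodule.smul_mem _ α hy)
    have hstab : ∀ k : P.K hA, (∃ β : F, ap (k : Sp B) w = β • w) →
        k • (P.W₀ hA ω : Set V) = P.W₀ hA ω := by
      rintro k ⟨β, hβ⟩
      have hβ0 : β ≠ 0 := fun e => hw0 ((ap (k : Sp B)).injective
        (by rw [hβ, e, zero_smul, map_zero]))
      rw [hline]
      ext y
      constructor
      · rintro ⟨y', hy', rfl⟩
        obtain ⟨r, rfl⟩ := Submodule.mem_span_singleton.1 hy'
        show ap (k : Sp B) (r • w) ∈ Submodule.span F {w}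
        rw [map_smul, hβ, smul_smul]
        exact Submodule.smul_mem _ _ (Submodule.mem_span_singleton_self w)
      · intro hy
        obtain ⟨r, rfl⟩ := Submodule.mem_span_singleton.1 hy
        refine ⟨(r / β) • w, Submodule.smul_mem _ _ (Submodule.mem_span_singleton_self w), ?_⟩
        show ap (k : Sp B) ((r / β) • w) = r • w
        rw [map_smul, hβ, smul_smul, div_mul_cancel₀ _ hβ0]
    have hxW : P.W₀ hA (u • ω) = P.W₀ hA ω := P.W₀_orbit hA hu
    obtain ⟨x, hxdef⟩ : ∃ x, u • ω = x := ⟨_, rfl⟩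
    simp only [hxdef] at hk hxW
    have hq4' := hq4 hd'
    have htr : ∀ c, tr hA w c • x = x := fun c => by
      obtain ⟨g, hg, h, hh, ⟨β, hgw⟩, hhw, e⟩ := P.tr_eq_commutator_scale hA hB hq4' hw hw0 c
      obtain ⟨b, eb⟩ := hk ⟨g, hg⟩ (hstab _ ⟨β, hgw⟩)
      obtain ⟨b', eb'⟩ := hk ⟨h, hh⟩ (hstab _ ⟨1, by rw [one_smul]; exact hhw⟩)
      rw [e]
      exact comm_fix hA (Pair.K_fix hA hg P.v_mem) (Pair.K_fix hA hh P.v_mem) eb eb'
    -- scaling the line
    have hscale : ∀ {r s : F} {a : F}, s ≠ 0 → r ≠ 0 → P.El hA (r • w) a • x = x →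
        P.El hA (s • w) a • x = x := by
      intro r s a hs hr ha
      obtain ⟨g, hg, hgw⟩ := transitive_ne_zero hA (Pair.nondeg_W hA hB (P := P)) hw
        (P.W.smul_mem (s / r) hw) hw0 (smul_ne_zero (div_ne_zero hs hr) hw0)
      obtain ⟨b, eb⟩ := hk ⟨g, hg⟩ (hstab _ ⟨s / r, hgw⟩)
      have h1 := ((Pair.K_levi hA hg).El_fix_iff hA (P.W.smul_mem r hw) a x).2 ha
      rw [one_smul, one_pow, one_mul, map_smul, show ap g w = (s / r) • w from hgw, smul_smul r (s / r) w,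
        mul_div_cancel₀ _ hr, show g • x = tr hA P.v b • x from eb, ← mul_smul,
        P.comm_tr_v hA (P.El_fix_v hA (Pair.vw (P.W.smul_mem s hw)) a), mul_smul,
        smul_left_cancel_iff] at h1
      exact h1
    have hzero : ∀ r : F, P.El hA (r • w) 0 • x = x := by
      intro r
      by_cases hr : r = 0
      · rw [hr, zero_smul, P.El_one, one_smul]
      obtain ⟨-, a, ha⟩ : r • w ∈ P.W₀ hA x := hxW ▸ hmem r
      obtain ⟨β, hβ0, hβ1⟩ := exists_ne_zero_ne hq (-1 : F)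
      have hβ' : β + 1 ≠ 0 := fun e => hβ1 (eq_neg_of_add_eq_zero_left e)
      have h1 := hscale (mul_ne_zero hβ0 hr) hr ha
      have h2 := hscale (mul_ne_zero hβ' hr) hr ha
      have h3 : P.El hA ((β * r) • w) a • P.El hA (r • w) a • x = x := by rw [ha, h1]
      rw [← mul_smul, P.El_mul hA (Pair.vw (P.W.smul_mem _ hw)) (Pair.vw (P.W.smul_mem _ hw)),
        ← add_smul, show β * r + r = (β + 1) * r by ring] at h3
      rw [show a + a + B (r • w) ((β * r) • w) = a + a by simp [hA w],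
        ← P.tr_mul_El hA (Pair.vw (P.W.smul_mem _ hw)), mul_smul, h2] at h3
      have h5 : tr hA P.v (-a) • x = x := by rw [← tr_inv, inv_smul_eq_iff, h3]
      have h4 : tr hA P.v (-a) * P.El hA (r • w) a = P.El hA (r • w) 0 := by
        rw [P.tr_mul_El hA (Pair.vw (P.W.smul_mem _ hw)), neg_add_cancel]
      rw [← h4, mul_smul, ha, h5]
    have hu' : ap u⁻¹ P.v = P.v := P.Q_fix_v hA (inv_mem hu)
    refine Or.inr (Or.inl ⟨hd', ap u⁻¹ w, ?_, fun hc => hw0 ?_, fun c => ?_, fun r => ?_⟩)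
    · conv_lhs => rw [← hu', ap_eq]
      exact Pair.vw hw
    · obtain ⟨k, hk'⟩ := Submodule.mem_span_singleton.1 hc
      have e : w = k • P.v := by
        rw [← ap_apply_inv u w, ← hk', map_smul, P.Q_fix_v hA hu]
      have h1 := Pair.fw hw
      rw [e, map_smul, Pair.fv hA] at h1
      rw [e, show k = 0 by simpa using h1, zero_smul]
    · have := back u hu _ (by rw [hxdef]; exact htr c)
      rwa [conj_tr] at this
    · have h1 : mtr hA P.v (r • w) 1 • x = x := by
        have := hzero r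
        rwa [Pair.El, tr_zero, mul_one] at this
      have := back u hu _ (by rw [hxdef]; exact h1)
      rwa [conj_mtr, show ((u⁻¹ : Sp B) : V ≃ₗ[F] V) P.v = P.v from hu', map_smul] at this
  · exact (P.hyper_false hA hB hd hd4 h2 hq ω horb (heven h2) hu hu0 hhyp).elim

end CfsgLib.Classical.MinIndexPSp
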