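import Mathlib.Algebra.Field.Basic
import Mathlib.Algebra.CharP.Lemmas
import Mathlib.FieldTheory.Finite.Basic
import Mathlib.GroupTheory.QuotientGroup.Finite
import Mathlib.Data.Set.Card

/-!
The multiples of a proper additive subgroup of a finite field by non-zero squares.
-/

set_option autoImplicit false

namespace CfsgLib.Classical.MinIndexPSp

variable {F : Type*} [Field F]

/-- The multiples of a set by the squares of the units. -/
def cls (A : Set F) : Set (Set F) := Set.range fun α : Fˣ => (fun c => (α : F) ^ 2 * c) '' A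

/-- The scalars mapping an additive subgroup into itself. -/
def multipliers (A : AddSubgroup F) : AddSubgroup F where
  carrier := {μ | ∀ a ∈ A, μ * a ∈ A}
  add_mem' := fun {x y} hx hy a ha => by rw [add_mul]; exact A.add_mem (hx a ha) (hy a ha)
  zero_mem' := fun a _ => by simp [A.zero_mem]
  neg_mem' := fun {x} hx a ha => by rw [neg_mul]; exact A.neg_mem (hx a ha)

theorem one_mem_multipliers (A : AddSubgroup F) : (1 : F) ∈ multipliers A := fun a ha => by
  rwa [one_mul]

variable [Finite F]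

theorem multipliers_mul_card_le {A : AddSubgroup F} (hA : A ≠ ⊤) :
    Nat.card (multipliers A) * Nat.card A ≤ Nat.card F := by
  obtain ⟨c₀, hc₀⟩ : ∃ c, c ∉ A := by
    by_contra hc
    push Not at hc
    exact hA ((AddSubgroup.eq_top_iff' A).2 hc)
  rw [← Nat.card_prod]
  refine Nat.card_le_card_of_injective
    (fun p : multipliers A × A => (p.1 : F) * c₀ + p.2) ?_
  rintro ⟨μ, a⟩ ⟨μ', a'⟩ e
  have e' : (μ : F) * c₀ + a = (μ' : F) * c₀ + a' := e
  by_cases hμ : μ = μ'
  · subst hμ
    exact Prod.ext rfl (Subtype.ext (add_left_cancel e'))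
  exfalso
  have hδ0 : ((μ - μ' : multipliers A) : F) ≠ 0 := fun hz => hμ (sub_eq_zero.1 (Subtype.ext hz))
  have hsurj : Function.Surjective (fun b : A =>
      (⟨((μ - μ' : multipliers A) : F) * b, (μ - μ').2 b b.2⟩ : A)) :=
    Finite.surjective_of_injective fun b b' eb =>
      Subtype.ext (mul_left_cancel₀ hδ0 (congrArg Subtype.val eb))
  obtain ⟨b, hb⟩ := hsurj (a' - a)
  have hb' : ((μ - μ' : multipliers A) : F) * b = a' - a := congrArg Subtype.val hb
  refine hc₀ ?_
  rw [show c₀ = b from mul_left_cancel₀ hδ0 (by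
    rw [hb', AddSubgroupClass.coe_sub]
    linear_combination e')]
  exact b.2

theorem card_units_le_cls {A : AddSubgroup F} (e : ℕ)
    (he : ∀ γ : F, {α : Fˣ | (α : F) ^ 2 = γ}.ncard ≤ e) :
    Nat.card F - 1 ≤ (cls (A : Set F)).ncard * (e * (Nat.card (multipliers A) - 1)) := by
  classical
  have : Fintype F := Fintype.ofFinite F
  have hsec : ∀ k : cls (A : Set F), ∃ α : Fˣ, (fun c => (α : F) ^ 2 * c) '' (A : Set F) = k.1 :=
    fun k => k.2
  choose sec hs using hsec
  let cl : Fˣ → cls (A : Set F) := fun α => ⟨_, α, rfl⟩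
  have key : ∀ α : Fˣ, (α : F) ^ 2 / (sec (cl α) : F) ^ 2 ∈ multipliers A := by
    intro α a ha
    obtain ⟨b, hb, eb⟩ : (α : F) ^ 2 * a ∈
        (fun c => (sec (cl α) : F) ^ 2 * c) '' (A : Set F) := by
      rw [hs (cl α)]; exact Set.mem_image_of_mem _ ha
    have hne : (sec (cl α) : F) ^ 2 ≠ 0 := pow_ne_zero 2 (sec (cl α)).ne_zero
    rw [show (α : F) ^ 2 / (sec (cl α) : F) ^ 2 * a = b by
      rw [div_mul_eq_mul_div, div_eq_iff hne, mul_comm b]; exact eb.symm]
    exact hb
  let f : Fˣ → cls (A : Set F) × {x : multipliers A // x ≠ 0} := fun α =>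
    (cl α, ⟨⟨_, key α⟩, fun e0 => div_ne_zero (pow_ne_zero 2 α.ne_zero)
      (pow_ne_zero 2 (sec (cl α)).ne_zero) (congrArg Subtype.val e0)⟩)
  have : Fintype (cls (A : Set F)) := Fintype.ofFinite _
  have : Fintype {x : multipliers A // x ≠ 0} := Fintype.ofFinite _
  have h1 := Finset.card_le_mul_card_image (f := f) (Finset.univ : Finset Fˣ) e (fun b _ => by
    refine le_trans ?_ (he ((sec b.1 : F) ^ 2 * ((b.2.1 : multipliers A) : F)))
    rw [← Set.ncard_coe_finset]
    refine Set.ncard_le_ncard ?_ (Set.toFinite _)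
    intro α hα
    have hα' : f α = b := (Finset.mem_filter.1 hα).2
    rw [← hα']
    show (α : F) ^ 2 = (sec (cl α) : F) ^ 2 * ((α : F) ^ 2 / (sec (cl α) : F) ^ 2)
    rw [mul_div_cancel₀ _ (pow_ne_zero 2 (sec (cl α)).ne_zero)])
  rw [Finset.card_univ] at h1
  have hk : Nat.card {x : multipliers A // x ≠ 0} = Nat.card (multipliers A) - 1 := by
    have : Fintype (multipliers A) := Fintype.ofFinite _
    rw [Nat.card_eq_fintype_card, Nat.card_eq_fintype_card, Fintype.card_subtype_compl,
      Fintype.card_subtype_eq]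
  have hu : Fintype.card Fˣ = Nat.card F - 1 := by
    rw [Fintype.card_units, Nat.card_eq_fintype_card]
  rw [← hu, ← Nat.card_coe_set_eq, ← hk, mul_left_comm, ← Nat.card_prod]
  refine h1.trans (Nat.mul_le_mul_left _ ?_)
  rw [Nat.card_eq_fintype_card]
  exact Finset.card_le_univ _

/-- The number of classes against the order. -/
theorem cls_bound {A : AddSubgroup F} (hA : A ≠ ⊤) (hq : 3 ≤ Nat.card F) :
    2 * Nat.card A ≤ Nat.card F ∧
    Nat.card A * Nat.card F < 2 * (cls (A : Set F)).ncard * (Nat.card F - 1) ∧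
    ((2 : F) = 0 → Nat.card A ≤ (cls (A : Set F)).ncard ∧
      (1 < Nat.card A → Nat.card A < (cls (A : Set F)).ncard)) := by
  classical
  set q := Nat.card F
  set a := Nat.card A
  set k := Nat.card (multipliers A)
  set C := (cls (A : Set F)).ncard
  have hk2 : 2 ≤ k := Finite.one_lt_card_iff_nontrivial.2
    ⟨⟨⟨1, one_mem_multipliers A⟩, 0, fun e => one_ne_zero (congrArg Subtype.val e)⟩⟩
  have hka : k * a ≤ q := multipliers_mul_card_le hA
  have ha0 : 0 < a := Nat.card_pos
  have hC : 0 < C := (Set.ncard_pos (Set.toFinite _)).2 ⟨_, 1, rfl⟩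
  have hsq : ∀ γ : F, {α : Fˣ | (α : F) ^ 2 = γ}.ncard ≤ 2 := by
    intro γ
    rcases Set.eq_empty_or_nonempty {α : Fˣ | (α : F) ^ 2 = γ} with h | ⟨α₀, hα₀⟩
    · rw [h, Set.ncard_empty]; omega
    · refine le_trans (Set.ncard_le_ncard ?_ (Set.toFinite _)) ((Set.ncard_insert_le α₀ {-α₀}).trans
        (by rw [Set.ncard_singleton]))
      intro α hα
      rcases sq_eq_sq_iff_eq_or_eq_neg.1 ((hα : (α : F) ^ 2 = γ).trans hα₀.symm) with h | h
      · exact Set.mem_insert_iff.2 (Or.inl (Units.ext h))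
      · exact Set.mem_insert_of_mem _ (Units.ext (by rw [h, Units.val_neg]))
  have hka1 : 1 < a → k ≤ a := by
    intro ha
    obtain ⟨⟨a₀, ha₀⟩, hne⟩ : ∃ x : A, x ≠ 0 := by
      have : Nontrivial A := Finite.one_lt_card_iff_nontrivial.1 ha
      exact exists_ne 0
    refine Nat.card_le_card_of_injective (fun μ : multipliers A => (⟨(μ : F) * a₀, μ.2 _ ha₀⟩ : A))
      fun μ μ' e => Subtype.ext (mul_right_cancel₀ (fun h => hne (Subtype.ext h))
        (congrArg Subtype.val e))
  have h2a : 2 * a ≤ q := le_trans (Nat.mul_le_mul_right _ hk2) hka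
  refine ⟨h2a, ?_, fun h2 => ?_⟩
  · have hb := card_units_le_cls (A := A) 2 hsq
    rcases Nat.lt_or_ge 1 a with ha | ha
    · have hk' := hka1 ha
      have h2k : 2 * k ≤ q := le_trans (by nlinarith) hka
      obtain ⟨j, hj⟩ : ∃ j, k = j + 1 := ⟨k - 1, by omega⟩
      obtain ⟨r, hr⟩ : ∃ r, q = r + 1 := ⟨q - 1, by omega⟩
      change q - 1 ≤ C * (2 * (k - 1)) at hb
      rw [hj, hr, Nat.add_sub_cancel, Nat.add_sub_cancel] at hb
      rw [hr, Nat.add_sub_cancel]
      rw [hj, hr] at hka h2k
      have hj1 : 1 ≤ j := by omega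
      refine Nat.lt_of_mul_lt_mul_left (a := (j + 1) * j) ?_
      have e1 : (j + 1) * j * (a * (r + 1)) ≤ (r + 1) * (r + 1) * j := by
        have := Nat.mul_le_mul_right (j * (r + 1)) hka
        linarith
      have e2 : (j + 1) * (r * r) ≤ (j + 1) * j * (2 * C * r) := by
        have := Nat.mul_le_mul_left ((j + 1) * r) hb
        linarith
      have e3 : (r + 1) * (r + 1) * j < (j + 1) * (r * r) := by nlinarith
      omega
    · have ha1 : a = 1 := by omega
      rw [ha1, one_mul]
      calc q < 2 * 1 * (q - 1) := by omega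
        _ ≤ 2 * C * (q - 1) := Nat.mul_le_mul_right _ (Nat.mul_le_mul_left _ hC)
  · have hb := card_units_le_cls (A := A) 1 (fun γ => (Set.ncard_le_one_iff (Set.toFinite _)).2 fun {α β} hα hβ =>
      Units.ext (by
        rcases sq_eq_sq_iff_eq_or_eq_neg.1
          ((hα : (α : F) ^ 2 = γ).trans (hβ : (β : F) ^ 2 = γ).symm) with h | h
        · exact h
        · rw [h]; linear_combination (-(β : F)) * h2))
    change q - 1 ≤ C * (1 * (k - 1)) at hb
    rw [one_mul] at hb
    obtain ⟨j, hj⟩ : ∃ j, k = j + 2 := ⟨k - 2, by omega⟩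
    rw [hj] at hka
    rw [hj, show j + 2 - 1 = j + 1 by omega] at hb
    have hb' : q ≤ C * (j + 1) + 1 := by omega
    refine ⟨?_, fun ha => ?_⟩
    · by_contra hlt
      push Not at hlt
      have := Nat.mul_le_mul_right (j + 1) (show C + 1 ≤ a from hlt)
      nlinarith
    · by_contra hlt
      push Not at hlt
      have := Nat.mul_le_mul_right (j + 1) hlt
      nlinarith

end CfsgLib.Classical.MinIndexPSp
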