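import Cfsg.Agent.Lib.Classical.MinIndexPSp.Pair
import Mathlib.Algebra.Group.Pointwise.Set.Basic
import Mathlib.Algebra.Module.ZMod
import Mathlib.LinearAlgebra.Dual.Lemmas
import Mathlib.Data.Set.Card

/-!
Orthogonality of additive subgroups with respect to a character of the ground field.
-/

set_option autoImplicit false

namespace CfsgLib.Classical.MinIndexPSp

open LinearMap (BilinForm)
open CfsgLib.Classical.Symp
open scoped Pointwise

/-- An elementary abelian group has at most as many elements as characters. -/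
theorem card_addHom_zmod {p : ℕ} [Fact p.Prime] (A : Type*) [AddCommGroup A] [Finite A]
    [Module (ZMod p) A] : Nat.card (A →+ ZMod p) = Nat.card A := by
  rw [Nat.card_congr (⟨fun f => f.toZModLinearMap p, fun f => f.toAddMonoidHom,
      fun _ => AddMonoidHom.ext fun _ => rfl, fun _ => LinearMap.ext fun _ => rfl⟩ :
      (A →+ ZMod p) ≃ Module.Dual (ZMod p) A),
    Module.natCard_eq_pow_finrank (K := ZMod p),
    Module.natCard_eq_pow_finrank (K := ZMod p) (V := A), Subspace.dual_finrank_eq]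

variable {F : Type*} [Field F] {p : ℕ}

theorem exists_char [Finite F] [Fact p.Prime] [CharP F p] {A : AddSubgroup F} (hA : A ≠ ⊤) :
    ∃ φ : F →+ ZMod p, φ ≠ 0 ∧ ∀ a ∈ A, φ a = 0 := by
  obtain ⟨c, hc⟩ : ∃ c, c ∉ A := by
    by_contra hc
    push Not at hc
    exact hA ((AddSubgroup.eq_top_iff' A).2 hc)
  have : Module (ZMod p) (F ⧸ A) := AddCommGroup.zmodModule fun x => by
    induction x using QuotientAddGroup.induction_on with
    | _ y =>
      rw [← QuotientAddGroup.mk_nsmul, nsmul_eq_mul, CharP.cast_eq_zero, zero_mul,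
        QuotientAddGroup.mk_zero]
  have hne : (QuotientAddGroup.mk c : F ⧸ A) ≠ 0 := fun e =>
    hc ((QuotientAddGroup.eq_zero_iff c).1 e)
  obtain ⟨ψ, hψ⟩ : ∃ ψ : (F ⧸ A) →ₗ[ZMod p] ZMod p, ψ (QuotientAddGroup.mk c) ≠ 0 := by
    by_contra h
    push Not at h
    exact hne ((Module.forall_dual_apply_eq_zero_iff (ZMod p) _).1 h)
  refine ⟨ψ.toAddMonoidHom.comp (QuotientAddGroup.mk' A), fun e => hψ (DFunLike.congr_fun e c),
    fun a ha => ?_⟩
  show ψ (QuotientAddGroup.mk a) = 0
  rw [(QuotientAddGroup.eq_zero_iff a).2 ha, map_zero]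

variable {V : Type*} [AddCommGroup V] [Module F V] {B : BilinForm F V}

namespace Pair

variable (P : Pair B) (φ : F →+ ZMod p)

/-- The vectors of the complement annihilated against a set. -/
def annih (s : Set V) : AddSubgroup V where
  carrier := {u | u ∈ P.W ∧ ∀ y ∈ s, φ (B u y) = 0}
  add_mem' := by
    rintro a b ⟨ha, ha'⟩ ⟨hb, hb'⟩
    exact ⟨P.W.add_mem ha hb, fun y hy => by simp [ha' y hy, hb' y hy]⟩
  zero_mem' := ⟨P.W.zero_mem, fun y _ => by simp⟩
  neg_mem' := by
    rintro a ⟨ha, ha'⟩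
    exact ⟨P.W.neg_mem ha, fun y hy => by simp [ha' y hy]⟩

theorem mem_annih {s : Set V} {u : V} :
    u ∈ P.annih φ s ↔ u ∈ P.W ∧ ∀ y ∈ s, φ (B u y) = 0 := Iff.rfl

variable (hA : B.IsAlt)
include hA

theorem annih_smul (k : P.K hA) (s : Set V) :
    (P.annih φ (k • s) : Set V) = k • (P.annih φ s : Set V) := by
  ext u
  rw [SetLike.mem_coe, mem_annih, Set.mem_smul_set_iff_inv_smul_mem, SetLike.mem_coe, mem_annih]
  refine and_congr ((K_levi hA (inv_mem k.2)).W u) ⟨fun h y hy => ?_, fun h y hy => ?_⟩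
  · have := h _ (Set.smul_mem_smul_set (a := k) hy)
    rwa [show B ((k⁻¹ • u : V)) y = B u (k • y) by
      rw [← ap_eq (k : Sp B) (k⁻¹ • u) y]
      show B ((k : Sp B) • (((k : Sp B)⁻¹ : Sp B) • u)) _ = _
      rw [smul_inv_smul]
      rfl]
  · obtain ⟨z, hz, rfl⟩ := hy
    have := h z hz
    rwa [show B ((k⁻¹ • u : V)) z = B u (k • z) by
      rw [← ap_eq (k : Sp B) (k⁻¹ • u) z]
      show B ((k : Sp B) • (((k : Sp B)⁻¹ : Sp B) • u)) _ = _
      rw [smul_inv_smul]
      rfl] at this

/-- The orbit of the annihilator is not longer. -/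
theorem orbit_annih_le [Finite V] (s : Set V) :
    (MulAction.orbit (P.K hA) (P.annih φ s : Set V)).ncard ≤
      (MulAction.orbit (P.K hA) s).ncard := by
  refine le_trans (Set.ncard_le_ncard ?_ (Set.toFinite _))
    (Set.ncard_image_le (f := fun t : Set V => (P.annih φ t : Set V)) (Set.toFinite _))
  rintro _ ⟨k, rfl⟩
  exact ⟨k • s, ⟨k, rfl⟩, P.annih_smul φ hA k s⟩

variable [Finite F] [FiniteDimensional F V] (hB : B.Nondegenerate)
include hB

/-- The annihilator of an additive subgroup has complementary order. -/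
theorem card_annih [Fact p.Prime] [CharP F p] (hφ : φ ≠ 0) (T : AddSubgroup V)
    (hT : (T : Set V) ⊆ P.W) {d : ℕ} (hd : Module.finrank F V = d + 2) :
    Nat.card (P.annih φ (T : Set V)) * Nat.card T = Nat.card F ^ d := by
  classical
  have : Finite V := Module.finite_of_finite F
  set T' : AddSubgroup P.W := T.comap P.W.subtype.toAddMonoidHom with hT'
  set D : AddSubgroup P.W := (P.annih φ (T : Set V)).comap P.W.subtype.toAddMonoidHom with hD
  have eT : Nat.card T' = Nat.card T := Nat.card_congr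
    { toFun := fun x => ⟨(x : P.W), x.2⟩
      invFun := fun x => ⟨⟨(x : V), hT x.2⟩, x.2⟩
      left_inv := fun _ => rfl
      right_inv := fun _ => rfl }
  have eD : Nat.card D = Nat.card (P.annih φ (T : Set V)) := Nat.card_congr
    { toFun := fun x => ⟨(x : P.W), x.2⟩
      invFun := fun x => ⟨⟨(x : V), x.2.1⟩, x.2⟩
      left_inv := fun _ => rfl
      right_inv := fun _ => rfl }
  have eW : Nat.card P.W = Nat.card F ^ d := by
    rw [Module.natCard_eq_pow_finrank (K := F), finrank_W hA hB hd]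
  rw [← eT, ← eD, ← eW]
  let Ψ : P.W →+ P.W →+ ZMod p := AddMonoidHom.mk'
    (fun u => AddMonoidHom.mk' (fun y => φ (B (u : V) y)) fun a b => by simp)
    fun a b => by ext y; simp
  have hnd : ∀ u : P.W, (∀ y, Ψ u y = 0) → u = 0 := by
    intro u hu
    by_contra hne
    obtain ⟨y, hy, huy⟩ :=
      exists_partner (nondeg_W hA hB) u.2 (fun e => hne (Subtype.ext e))
    refine hφ (AddMonoidHom.ext fun c => ?_)
    have := hu ⟨c • y, P.W.smul_mem c hy⟩
    simpa [Ψ, huy] using this
  have hsymm : ∀ u y : P.W, Ψ u y = 0 → Ψ y u = 0 := fun u y h => by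
    have h' : φ (B (u : V) y) = 0 := h
    show φ (B (y : V) u) = 0
    rw [swap hA (u : V) y, map_neg, h', neg_zero]
  have hpW : ∀ x : P.W, p • x = 0 := fun x => by
    rw [← Nat.cast_smul_eq_nsmul F, CharP.cast_eq_zero, zero_smul]
  have hmod : ∀ S : AddSubgroup P.W, Nat.card (P.W ⧸ S →+ ZMod p) = Nat.card (P.W ⧸ S) := by
    intro S
    have : Module (ZMod p) (P.W ⧸ S) := AddCommGroup.zmodModule fun x => by
      induction x using QuotientAddGroup.induction_on with
      | _ y => rw [← QuotientAddGroup.mk_nsmul, hpW, QuotientAddGroup.mk_zero]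
    exact card_addHom_zmod _
  refine le_antisymm ?_ ?_
  · have hker : ∀ u : D, T' ≤ (Ψ u).ker := fun u y hy => u.2.2 _ hy
    have : Finite (P.W ⧸ T' →+ ZMod p) := DFunLike.finite _
    rw [AddSubgroup.card_eq_card_quotient_mul_card_addSubgroup T', ← hmod T']
    refine Nat.mul_le_mul_right _ (Nat.card_le_card_of_injective
      (fun u : D => QuotientAddGroup.lift T' (Ψ u) (hker u)) fun u u' e => ?_)
    refine Subtype.ext (sub_eq_zero.1 (hnd _ fun y => ?_))
    have e1 : Ψ u y = Ψ u' y := DFunLike.congr_fun e (QuotientAddGroup.mk y)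
    rw [map_sub, AddMonoidHom.sub_apply, e1, sub_self]
  · have : Module (ZMod p) T' := AddCommGroup.zmodModule fun x => Subtype.ext (hpW x)
    have : Finite (T' →+ ZMod p) := DFunLike.finite _
    rw [AddSubgroup.card_eq_card_quotient_mul_card_addSubgroup D, mul_comm (Nat.card D),
      ← card_addHom_zmod (p := p) T']
    refine Nat.mul_le_mul_right _ ?_
    let R : P.W →+ T' →+ ZMod p :=
      AddMonoidHom.mk' (fun u => (Ψ u).comp T'.subtype) fun a b => by ext y; simp
    refine Nat.card_le_card_of_injective (QuotientAddGroup.lift D R fun u hu => ?_) ?_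
    · ext y
      exact hu.2 _ y.2
    · rw [injective_iff_map_eq_zero]
      intro x hx
      induction x using QuotientAddGroup.induction_on with
      | _ u =>
        refine (QuotientAddGroup.eq_zero_iff u).2 ⟨u.2, fun y hy => ?_⟩
        exact DFunLike.congr_fun hx ⟨⟨y, hT hy⟩, hy⟩

end Pair

end CfsgLib.Classical.MinIndexPSp
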