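import Mathlib.GroupTheory.GroupAction.Basic
import Mathlib.Algebra.Group.Pointwise.Set.Basic
import Mathlib.Data.Set.Card
import Mathlib.Algebra.BigOperators.Group.Finset.Basic
import Mathlib.Algebra.Order.BigOperators.Group.Finset
import Mathlib.Tactic.Ring

/-!
Double counting of the translates of a subset under a group action.
-/

set_option autoImplicit false

namespace CfsgLib.Classical.MinIndexPSp

open scoped Pointwise

variable {Γ X : Type*} [Group Γ] [MulAction Γ X] [Finite X]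

theorem card_inter_smul (g : Γ) (s : Set X) (w : X) :
    (g • s ∩ MulAction.orbit Γ w).ncard = (s ∩ MulAction.orbit Γ w).ncard := by
  conv_lhs => rw [← MulAction.smul_orbit g w, ← Set.smul_set_inter, ← Set.image_smul]
  exact Set.ncard_image_of_injective _ (MulAction.injective g)

/-- Every point of the orbit lies in a translate. -/
theorem orbit_le_translates {s : Set X} {w : X} (hw : w ∈ s) {r : ℕ}
    (hr : (s ∩ MulAction.orbit Γ w).ncard ≤ r) :
    (MulAction.orbit Γ w).ncard ≤ (MulAction.orbit Γ s).ncard * r := by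
  classical
  have : Finite (Set X) := inferInstance
  have : Fintype (MulAction.orbit Γ s) := Fintype.ofFinite _
  have key : ∀ x : MulAction.orbit Γ w, ∃ t : MulAction.orbit Γ s, (x : X) ∈ (t : Set X) := by
    rintro ⟨_, g, rfl⟩
    exact ⟨⟨g • s, g, rfl⟩, Set.smul_mem_smul_set hw⟩
  choose t ht using key
  rw [← Nat.card_coe_set_eq, ← Nat.card_coe_set_eq (MulAction.orbit Γ s)]
  refine (Nat.card_le_card_of_injective
    (fun x => (⟨t x, ⟨(x : X), ht x, x.2⟩⟩ :
      (u : MulAction.orbit Γ s) × ↥((u : Set X) ∩ MulAction.orbit Γ w)))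
    fun x y e => Subtype.ext (congrArg (fun p : (u : MulAction.orbit Γ s) ×
      ↥((u : Set X) ∩ MulAction.orbit Γ w) => (p.2 : X)) e)).trans ?_
  rw [Nat.card_sigma, Nat.card_eq_fintype_card, ← smul_eq_mul, ← Finset.card_univ,
    ← Finset.sum_const]
  refine Finset.sum_le_sum fun u _ => ?_
  obtain ⟨g, (hg : g • s = _)⟩ := u.2
  rw [Nat.card_coe_set_eq, ← hg]
  exact (card_inter_smul g s w).trans_le hr

/-- The double count over pairs in a common translate. -/
theorem pair_le {s : Set X} {w : X} (T : Set X) {r₀ r₁ : ℕ}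
    (h₀ : (s ∩ MulAction.orbit Γ w).ncard ≤ r₀)
    (hT : ∀ x ∈ T, ∃ g : Γ, w ∈ g • s ∧ x ∈ g • s)
    (h₁ : ∀ g : Γ, w ∈ g • s → (g • s ∩ T).ncard ≤ r₁) :
    T.ncard * (MulAction.orbit Γ w).ncard ≤ (MulAction.orbit Γ s).ncard * r₀ * r₁ := by
  classical
  set 𝒪 := MulAction.orbit Γ s
  set O := MulAction.orbit Γ w
  let P := {t : 𝒪 // w ∈ (t : Set X)}
  have : Finite (Set X) := inferInstance
  have : Fintype P := Fintype.ofFinite _
  have : Fintype O := Fintype.ofFinite _
  have : Fintype 𝒪 := Fintype.ofFinite _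
  have h2 : T.ncard ≤ Nat.card P * r₁ := by
    have key : ∀ x : T, ∃ t : P, (x : X) ∈ (t.1 : Set X) := by
      rintro ⟨x, hx⟩
      obtain ⟨g, hgw, hgx⟩ := hT x hx
      exact ⟨⟨⟨g • s, g, rfl⟩, hgw⟩, hgx⟩
    choose t ht using key
    rw [← Nat.card_coe_set_eq]
    refine (Nat.card_le_card_of_injective
      (fun x => (⟨t x, ⟨(x : X), ht x, x.2⟩⟩ : (u : P) × ↥((u.1 : Set X) ∩ T)))
      fun x y e => Subtype.ext (congrArg (fun p : (u : P) ×
        ↥((u.1 : Set X) ∩ T) => (p.2 : X)) e)).trans ?_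
    rw [Nat.card_sigma, Nat.card_eq_fintype_card, ← smul_eq_mul, ← Finset.card_univ,
      ← Finset.sum_const]
    refine Finset.sum_le_sum fun u _ => ?_
    obtain ⟨g, (hg : g • s = _)⟩ := u.1.2
    rw [Nat.card_coe_set_eq, ← hg]
    exact h₁ g (hg ▸ u.2)
  have h3 : O.ncard * Nat.card P ≤ 𝒪.ncard * r₀ := by
    have e1 : ∀ x : O, Nat.card {t : 𝒪 // (x : X) ∈ (t : Set X)} = Nat.card P := by
      rintro ⟨_, g, rfl⟩
      refine (Nat.card_congr ((MulAction.toPerm g : Equiv.Perm 𝒪).subtypeEquiv fun t => ?_)).symm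
      exact (Set.smul_mem_smul_set_iff (a := g)).symm
    have e2 : ∀ t : 𝒪, Nat.card {x : O // (x : X) ∈ (t : Set X)} ≤ r₀ := by
      intro t
      obtain ⟨g, (hg : g • s = _)⟩ := t.2
      refine le_trans ?_ ((card_inter_smul g s w).trans_le h₀)
      rw [← Nat.card_coe_set_eq, hg]
      exact Nat.card_le_card_of_injective (fun x => (⟨(x : X), x.2, x.1.2⟩ :
        ↥((t : Set X) ∩ MulAction.orbit Γ w)))
        fun a b e => Subtype.ext (Subtype.ext (congrArg (fun z : ↥((t : Set X) ∩ MulAction.orbit Γ w) => (z : X)) e))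
    have k1 : Nat.card ((x : O) × {t : 𝒪 // (x : X) ∈ (t : Set X)}) = O.ncard * Nat.card P := by
      rw [Nat.card_sigma, Finset.sum_congr rfl fun x _ => e1 x, Finset.sum_const, Finset.card_univ,
        smul_eq_mul, ← Nat.card_eq_fintype_card, Nat.card_coe_set_eq]
    rw [← k1, Nat.card_congr (show ((x : O) × {t : 𝒪 // (x : X) ∈ (t : Set X)}) ≃
        ((t : 𝒪) × {x : O // (x : X) ∈ (t : Set X)}) from
      { toFun := fun p => ⟨p.2.1, p.1, p.2.2⟩
        invFun := fun p => ⟨p.2.1, p.1, p.2.2⟩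
        left_inv := fun _ => rfl
        right_inv := fun _ => rfl }), Nat.card_sigma, ← Nat.card_coe_set_eq,
      Nat.card_eq_fintype_card (α := 𝒪), ← smul_eq_mul, ← Finset.card_univ, ← Finset.sum_const]
    exact Finset.sum_le_sum fun t _ => e2 t
  calc T.ncard * O.ncard ≤ Nat.card P * r₁ * O.ncard := Nat.mul_le_mul_right _ h2
    _ = O.ncard * Nat.card P * r₁ := by ring
    _ ≤ 𝒪.ncard * r₀ * r₁ := Nat.mul_le_mul_right _ h3

/-- Pairwise different orbits of a given length. -/
theorem sum_orbits_le {ι : Type*} [Finite ι] (x : ι → X) {b : ℕ}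
    (hb : ∀ i, b ≤ (MulAction.orbit Γ (x i)).ncard)
    (hne : ∀ i j, x j ∈ MulAction.orbit Γ (x i) → i = j) : Nat.card ι * b ≤ Nat.card X := by
  classical
  have : Fintype ι := Fintype.ofFinite ι
  have hinj : Function.Injective
      (fun z : (i : ι) × MulAction.orbit Γ (x i) => (z.2 : X)) := by
    rintro ⟨i, y, hy⟩ ⟨j, y', hy'⟩ e
    have e' : y = y' := e
    subst e'
    have hij : i = j := hne i j ((MulAction.orbit_eq_iff.2 hy).symm ▸
      (MulAction.orbit_eq_iff.2 hy').symm ▸ MulAction.mem_orbit_self (x j))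
    subst hij
    rfl
  refine le_trans ?_ (Nat.card_le_card_of_injective _ hinj)
  rw [Nat.card_sigma, Nat.card_eq_fintype_card, ← smul_eq_mul, ← Finset.card_univ,
    ← Finset.sum_const]
  exact Finset.sum_le_sum fun i _ => (hb i).trans_eq (Nat.card_coe_set_eq _).symm

end CfsgLib.Classical.MinIndexPSp
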