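import Cfsg.Agent.Lib.Classical.MinIndexPSp.Pair
import Cfsg.Agent.Lib.Classical.MinIndexPSp.Count
import Cfsg.Agent.Lib.Classical.Symplectic.Order

/-!
The orbits of the group of a complement on small additive subgroups are long.
-/

set_option autoImplicit false

namespace CfsgLib.Classical.MinIndexPSp

open LinearMap (BilinForm)
open CfsgLib.Classical.Symp
open scoped Pointwise

variable {F : Type*} [Field F] {V : Type*} [AddCommGroup V] [Module F V] {B : BilinForm F V}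
  [FiniteDimensional F V]

theorem exists_perp_in (hA : B.IsAlt) {U : Submodule F V}
    (hU : ∀ x ∈ U, (∀ y ∈ U, B x y = 0) → x = 0) {u r : V} (hu : u ∈ U) (hr : r ∈ U)
    (hru : r ∉ Submodule.span F {u}) : ∃ z ∈ U, B u z = 0 ∧ B r z ≠ 0 := by
  obtain ⟨z, h1, h2⟩ := exists_perp_apply_ne_zero (B := B.restrict U) (restrict_isAlt hA U)
    (restrict_nondegenerate hA hU) (u := ⟨u, hu⟩) (r := ⟨r, hr⟩) (fun h => by
      obtain ⟨a, ha⟩ := Submodule.mem_span_singleton.1 h
      exact hru (Submodule.mem_span_singleton.2 ⟨a, congrArg Subtype.val ha⟩))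
  exact ⟨z, z.2, h1, h2⟩

theorem exists_fix_map_in (hA : B.IsAlt) {U : Submodule F V}
    (hU : ∀ x ∈ U, (∀ y ∈ U, B x y = 0) → x = 0) {u r r' : V} (hu : u ∈ U) (hr : r ∈ U)
    (hr' : r' ∈ U) (h : B u r = B u r') (hru : r ∉ Submodule.span F {u})
    (hru' : r' ∉ Submodule.span F {u}) :
    ∃ g ∈ trGroup hA U, ap g u = u ∧ ap g r = r' := by
  by_cases hc : B u r = 0
  · by_cases hne : B r r' = 0
    · obtain ⟨z, hz, hz1, hz2⟩ := exists_apply_ne_zero_both (B := B)
        (U := U ⊓ LinearMap.ker (B u)) (u := r) (w := r')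
        (by obtain ⟨a, ha, h1, h2⟩ := exists_perp_in hA hU hu hr hru; exact ⟨a, ⟨ha, h1⟩, h2⟩)
        (by obtain ⟨a, ha, h1, h2⟩ := exists_perp_in hA hU hu hr' hru'; exact ⟨a, ⟨ha, h1⟩, h2⟩)
      have huz : B u z = 0 := hz.2
      obtain ⟨s₁, hs₁, e1, e1'⟩ := exists_tr_fixing hA (u := u) hr hz.1 (by rw [hc, huz]) hz1
      obtain ⟨s₂, hs₂, e2, e2'⟩ := exists_tr_fixing hA (u := u) hz.1 hr' (by rw [huz, ← h, hc])
        (by rwa [swap hA r' z, neg_ne_zero])
      exact ⟨s₂ * s₁, mul_mem hs₂ hs₁, by rw [ap_mul]; show ap s₂ _ = u; rw [e1]; exact e2,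
        by rw [ap_mul]; show ap s₂ _ = r'; rw [e1']; exact e2'⟩
    · exact exists_tr_fixing hA hr hr' h hne
  · obtain ⟨g, hg, g1, g2⟩ := transitive_hyperbolic hA hU hu (U.smul_mem (B u r)⁻¹ hr) hu
      (U.smul_mem (B u r)⁻¹ hr') (u := u) (u' := u)
      (by simp [hc]) (by simp [← h, hc])
    refine ⟨g, hg, g1, ?_⟩
    rw [map_smul] at g2
    exact smul_right_injective V (inv_ne_zero hc) g2

namespace Pair

variable (P : Pair B) (hA : B.IsAlt) (hB : B.Nondegenerate) [Finite F]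
include hA hB

theorem ncard_orbit_K {d : ℕ} (hd : Module.finrank F V = d + 2) {w : V} (hw : w ∈ P.W)
    (hw0 : w ≠ 0) : (MulAction.orbit (P.K hA) w).ncard = Nat.card F ^ d - 1 := by
  rw [← finrank_W hA hB hd (P := P), ← natCard_ne_zero_eq (F := F) (V := P.W),
    ← Nat.card_coe_set_eq]
  have hmem : ∀ x : MulAction.orbit (P.K hA) w, (x : V) ∈ P.W ∧ (x : V) ≠ 0 := by
    rintro ⟨_, k, rfl⟩
    exact ⟨((K_levi hA k.2).W w).1 hw, fun e => hw0 ((ap (k : Sp B)).injective
      (e.trans (map_zero _).symm))⟩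
  refine Nat.card_congr (Equiv.ofBijective
    (fun x => (⟨⟨x, (hmem x).1⟩, fun e => (hmem x).2 (congrArg Subtype.val e)⟩ :
      {z : P.W // z ≠ 0})) ⟨fun x y e => Subtype.ext
        (congrArg (fun z : {z : P.W // z ≠ 0} => ((z : P.W) : V)) e), fun z => ?_⟩)
  obtain ⟨k, hk, e⟩ := transitive_ne_zero hA (nondeg_W hA hB (P := P)) hw z.1.2 hw0
    (fun h => z.2 (Subtype.ext h))
  exact ⟨⟨z.1, ⟨k, hk⟩, e⟩, rfl⟩

variable (T : AddSubgroup V) [Finite V]

theorem inter_orbit_le {w : V} (hw0 : w ≠ 0) :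
    ((T : Set V) ∩ MulAction.orbit (P.K hA) w).ncard ≤ Nat.card T - 1 := by
  refine le_trans (Set.ncard_le_ncard (t := (T : Set V) \ {0}) ?_ (Set.toFinite _)) ?_
  · rintro _ ⟨hx, k, rfl⟩
    refine ⟨hx, fun e => hw0 ((ap (k : Sp B)).injective ?_)⟩
    exact (Set.mem_singleton_iff.1 e).trans (map_zero _).symm
  · rw [Set.ncard_sdiff_singleton_of_mem T.zero_mem, ← Nat.card_coe_set_eq]
    exact le_rfl

/-- A non-trivial subgroup covers the non-zero vectors. -/
theorem single_le {d : ℕ} (hd : Module.finrank F V = d + 2) {w : V} (hw : w ∈ T) (hwW : w ∈ P.W)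
    (hw0 : w ≠ 0) : Nat.card F ^ d - 1 ≤
      (MulAction.orbit (P.K hA) (T : Set V)).ncard * (Nat.card T - 1) := by
  rw [← P.ncard_orbit_K hA hB hd hwW hw0]
  exact orbit_le_translates hw (P.inter_orbit_le hA hB T hw0)

theorem fibre_card {d : ℕ} (hd : Module.finrank F V = d + 2) {w : V} (hwW : w ∈ P.W)
    (hw0 : w ≠ 0) (c : F) :
    {z : V | z ∈ P.W ∧ B w z = c}.ncard = Nat.card F ^ (d - 1) := by
  rw [← finrank_W hA hB hd (P := P), ← Nat.card_coe_set_eq]
  have hne : (B w).domRestrict P.W ≠ 0 := by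
    obtain ⟨y, hy, h1⟩ := exists_partner (nondeg_W hA hB (P := P)) hwW hw0
    intro e
    have := LinearMap.congr_fun e ⟨y, hy⟩
    simp [h1] at this
  rw [← card_fibre_linear ((B w).domRestrict P.W) hne c]
  exact Nat.card_congr
    { toFun := fun z => ⟨⟨z, z.2.1⟩, z.2.2⟩
      invFun := fun z => ⟨(z : P.W), z.1.2, z.2⟩
      left_inv := fun _ => rfl
      right_inv := fun _ => rfl }

/-- The double count over an independent pair. -/
theorem pair_bound {d : ℕ} (hd : Module.finrank F V = d + 2) {w w' : V} (hwT : w ∈ T)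
    (hw'T : w' ∈ T) (hwW : w ∈ P.W) (hw'W : w' ∈ P.W) (hw0 : w ≠ 0)
    (hw' : w' ∉ Submodule.span F {w}) :
    (Nat.card F ^ (d - 1) - Nat.card F) * (Nat.card F ^ d - 1) ≤
      (MulAction.orbit (P.K hA) (T : Set V)).ncard * (Nat.card T - 1) * Nat.card T := by
  classical
  set X : Set V := {z | z ∈ P.W ∧ B w z = B w w'} \ (Submodule.span F {w} : Set V)
  have hX : Nat.card F ^ (d - 1) - Nat.card F ≤ X.ncard := by
    have hline : (Submodule.span F {w} : Set V).ncard = Nat.card F := by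
      rw [← Nat.card_coe_set_eq]
      show Nat.card ↥(Submodule.span F {w}) = _
      rw [Module.natCard_eq_pow_finrank (K := F), finrank_span_singleton hw0, pow_one]
    rw [← P.fibre_card hA hB hd hwW hw0 (B w w'), ← hline]
    exact Set.le_ncard_sdiff _ _ (Set.toFinite _)
  refine le_trans (Nat.mul_le_mul_right _ hX) ?_
  rw [← P.ncard_orbit_K hA hB hd hwW hw0]
  refine pair_le (Γ := P.K hA) X (P.inter_orbit_le hA hB T hw0) (fun x hx => ?_) fun g _ => ?_
  · obtain ⟨⟨hxW, hxB⟩, hxl⟩ := hx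
    obtain ⟨g, hg, g1, g2⟩ := exists_fix_map_in hA (nondeg_W hA hB (P := P)) hwW hw'W hxW
      hxB.symm hw' hxl
    exact ⟨⟨g, hg⟩, ⟨w, hwT, g1⟩, ⟨w', hw'T, g2⟩⟩
  · refine le_trans (Set.ncard_le_ncard Set.inter_subset_left (Set.toFinite _)) ?_
    rw [← Set.image_smul, Set.ncard_image_of_injective _ (MulAction.injective g),
      ← Nat.card_coe_set_eq]
    exact le_rfl

/-- The double count over a hyperbolic pair, divided by the characteristic. -/
theorem hyp_bound {p : ℕ} [CharP F p] (hp : p.Prime) {d : ℕ}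
    (hd : Module.finrank F V = d + 2) {w w' : V} (hwT : w ∈ T) (hw'T : w' ∈ T) (hwW : w ∈ P.W)
    (hw'W : w' ∈ P.W) (hc : B w w' ≠ 0) :
    p * (Nat.card F ^ (d - 1) * (Nat.card F ^ d - 1)) ≤
      (MulAction.orbit (P.K hA) (T : Set V)).ncard * (Nat.card T - 1) * Nat.card T := by
  classical
  have hw0 : w ≠ 0 := ne_zero_of_apply_ne_zero hc
  have hnl : ∀ z, B w z = B w w' → z ∉ Submodule.span F {w} := by
    intro z hz hl
    obtain ⟨a, rfl⟩ := Submodule.mem_span_singleton.1 hl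
    rw [map_smul, hA w, smul_zero] at hz
    exact hc hz.symm
  set X : Set V := {z | z ∈ P.W ∧ B w z = B w w'}
  have key := pair_le (Γ := P.K hA) (s := (T : Set V)) (w := w) X
    (P.inter_orbit_le hA hB T hw0) (r₁ := Nat.card T / p) (fun x hx => ?_) fun g _ => ?_
  · rw [P.fibre_card hA hB hd hwW hw0, P.ncard_orbit_K hA hB hd hwW hw0] at key
    refine (Nat.mul_le_mul_left p key).trans ?_
    rw [mul_left_comm]
    exact Nat.mul_le_mul_left _ (Nat.mul_div_le _ _)
  · obtain ⟨hxW, hxB⟩ := hx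
    obtain ⟨g, hg, g1, g2⟩ := exists_fix_map_in hA (nondeg_W hA hB (P := P)) hwW hw'W hxW
      hxB.symm (hnl _ rfl) (hnl _ hxB)
    exact ⟨⟨g, hg⟩, ⟨w, hwT, g1⟩, ⟨w', hw'T, g2⟩⟩
  · rw [Nat.le_div_iff_mul_le hp.pos]
    rcases ((g • (T : Set V)) ∩ X).eq_empty_or_nonempty with h | ⟨x₀, hx₀⟩
    · rw [h, Set.ncard_empty, zero_mul]
      exact Nat.zero_le _
    have hclose : ∀ (a : V), a ∈ g • (T : Set V) → ∀ b ∈ g • (T : Set V),
        a + b ∈ g • (T : Set V) := by
      rintro _ ⟨a, ha, rfl⟩ _ ⟨b, hb, rfl⟩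
      exact ⟨a + b, T.add_mem ha hb, map_add (ap (g : Sp B)) a b⟩
    have hz : (0 : V) ∈ g • (T : Set V) := ⟨0, T.zero_mem, map_zero (ap (g : Sp B))⟩
    have hj : ∀ j : ℕ, (j : F) • x₀ ∈ g • (T : Set V) := by
      intro j
      induction j with
      | zero => simpa using hz
      | succ j ih =>
        rw [Nat.cast_succ, add_smul, one_smul]
        exact hclose _ ih _ hx₀.1
    calc ((g • (T : Set V)) ∩ X).ncard * p
        = Nat.card (↥((g • (T : Set V)) ∩ X) × Fin p) := by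
          rw [Nat.card_prod, Nat.card_fin, Nat.card_coe_set_eq]
      _ ≤ Nat.card ↥(g • (T : Set V)) := Nat.card_le_card_of_injective
          (fun z => (⟨(z.1 : V) + ((z.2 : ℕ) : F) • x₀,
            hclose _ z.1.2.1 _ (hj z.2)⟩ : ↥(g • (T : Set V)))) ?_
      _ = Nat.card T := by
          rw [Nat.card_coe_set_eq, ← Set.image_smul,
            Set.ncard_image_of_injective _ (MulAction.injective g), ← Nat.card_coe_set_eq]
          rfl
    rintro ⟨⟨z, hzT, hzW, hzB⟩, i⟩ ⟨⟨z', hzT', hzW', hzB'⟩, j⟩ e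
    have e' : z + ((i : ℕ) : F) • x₀ = z' + ((j : ℕ) : F) • x₀ := congrArg Subtype.val e
    have e2 := congrArg (B w) e'
    simp only [map_add, map_smul, smul_eq_mul, hzB, hzB', hx₀.2.2] at e2
    have hij : i = j := Fin.ext (((CharP.natCast_eq_natCast F p).1
      (mul_right_cancel₀ hc (add_left_cancel e2))).eq_of_lt_of_lt i.2 j.2)
    subst hij
    exact Prod.ext (Subtype.ext (add_right_cancel e')) rfl

end Pair

end CfsgLib.Classical.MinIndexPSp
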