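import Cfsg.Agent.Lib.Classical.MinIndexPSp.Setting
import Cfsg.Agent.Lib.Classical.MinIndexPSp.Dual
import Cfsg.Agent.Lib.Classical.MinIndexPSp.Small
import Mathlib.FieldTheory.Finite.Basic

/-!
On fewer points than the space has lines the projection of the stabiliser in the unipotent radical
to the complement is trivial, a line in dimension four, a hyperplane or everything.
-/

set_option autoImplicit false

namespace CfsgLib.Classical.MinIndexPSp

open LinearMap (BilinForm)
open CfsgLib.Classical.Symp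
open scoped Pointwise

theorem two_mul_le_of_dvd {p n m δ : ℕ} (hp : p.Prime) (h : δ ∣ (p ^ n) ^ m) (hlt : δ < p ^ n) :
    2 * δ ≤ p ^ n := by
  obtain ⟨i, -, rfl⟩ := (Nat.dvd_prime_pow hp).1 ((pow_mul p n m).symm ▸ h)
  have hi : i < n := (Nat.pow_lt_pow_iff_right hp.one_lt).1 hlt
  calc 2 * p ^ i ≤ p * p ^ i := Nat.mul_le_mul_right _ hp.two_le
    _ = p ^ (i + 1) := by ring
    _ ≤ p ^ n := Nat.pow_le_pow_right hp.pos hi

theorem pair_num {q g : ℕ} (hq : 3 ≤ q) :
    2 * (q ^ (g + 2)) ^ 3 ≤ (q ^ (2 * (g + 2) - 1) - q) * (q ^ (2 * (g + 2)) - 1) := by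
  obtain ⟨y, hy⟩ : ∃ y, q ^ g = y := ⟨_, rfl⟩
  have hy1 : 1 ≤ y := hy ▸ Nat.one_le_pow _ _ (by omega)
  rw [show q ^ (2 * (g + 2) - 1) = y * y * q ^ 3 by
      rw [show 2 * (g + 2) - 1 = g + g + 3 by omega, pow_add, pow_add, hy],
    show q ^ (2 * (g + 2)) = y * y * q ^ 4 by
      rw [show 2 * (g + 2) = g + g + 4 by omega, pow_add, pow_add, hy],
    show (q ^ (g + 2)) ^ 3 = y * y * y * q ^ 6 by rw [pow_add, hy]; ring]
  have h9 : 9 ≤ q ^ 2 := Nat.pow_le_pow_left hq 2
  have e1 : y * y * (q ^ 3 - q) ≤ y * y * q ^ 3 - q := by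
    rw [Nat.mul_sub]
    have : q ≤ y * y * q := Nat.le_mul_of_pos_left _ (by positivity)
    omega
  have e2 : y * y * (q ^ 4 - 1) ≤ y * y * q ^ 4 - 1 := by
    rw [Nat.mul_sub]
    have : 1 ≤ y * y * 1 := by nlinarith
    omega
  refine le_trans ?_ (Nat.mul_le_mul e1 e2)
  have key : 2 * q ^ 6 ≤ (q ^ 3 - q) * (q ^ 4 - 1) := by
    zify [show q ≤ q ^ 3 from Nat.le_self_pow (by norm_num) q,
      show 1 ≤ q ^ 4 from Nat.one_le_pow _ _ (by omega)]
    have hq' : (3 : ℤ) ≤ q := by exact_mod_cast hq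
    nlinarith [mul_le_mul_of_nonneg_left (show (2 : ℤ) ≤ (q : ℤ) ^ 2 - 2 * q - 1 by nlinarith)
      (show (0 : ℤ) ≤ (q : ℤ) ^ 5 by positivity), pow_nonneg (show (0:ℤ) ≤ q by omega) 3,
      pow_le_pow_right₀ (show (1 : ℤ) ≤ q by omega) (show 3 ≤ 5 by norm_num)]
  calc 2 * (y * y * y * q ^ 6) = y * y * y * (2 * q ^ 6) := by ring
    _ ≤ y * y * y * y * ((q ^ 3 - q) * (q ^ 4 - 1)) :=
      Nat.mul_le_mul (Nat.le_mul_of_pos_right _ (by omega)) key
    _ = _ := by ring

variable {F : Type*} [Field F] {V : Type*} [AddCommGroup V] [Module F V] {B : BilinForm F V}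
  (hA : B.IsAlt) (hB : B.Nondegenerate) [Finite F] [FiniteDimensional F V]
  {Ω : Type*} [MulAction (Sp B) Ω] [Finite Ω] (P : Pair B)

namespace Pair

include hA hB

variable {d : ℕ} (hd : Module.finrank F V = d + 2) (hq : 3 ≤ Nat.card F)
  (hN : (Nat.card Ω + 1) * (Nat.card F - 1) + 1 ≤ Nat.card F ^ (d + 2))
  (ω : Ω) (hω : fixA hA P.v ω ≠ ⊤)

include hd hq hN hω

theorem moved_bound : Nat.card Ω * Nat.card (fixA hA P.v ω) <
    2 * (cls (fixA hA P.v ω : Set F)).ncard * Nat.card F ^ (d + 1) := by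
  set q := Nat.card F
  set a := Nat.card (fixA hA P.v ω)
  obtain ⟨-, h2, -⟩ := cls_bound hω hq
  have ha : 0 < a := Nat.card_pos
  refine Nat.lt_of_mul_lt_mul_right (a := q - 1) ?_
  have h1 : Nat.card Ω * (q - 1) < q ^ (d + 2) :=
    lt_of_lt_of_le (Nat.lt_succ_of_le (Nat.mul_le_mul_right _ (Nat.le_succ _))) hN
  calc Nat.card Ω * a * (q - 1) = a * (Nat.card Ω * (q - 1)) := by ring
    _ < a * q ^ (d + 2) := Nat.mul_lt_mul_of_pos_left h1 ha
    _ = a * q * q ^ (d + 1) := by ring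
    _ ≤ 2 * (cls (fixA hA P.v ω : Set F)).ncard * (q - 1) * q ^ (d + 1) :=
      Nat.mul_le_mul_right _ h2.le
    _ = _ := by ring

theorem count_one : (cls (fixA hA P.v ω : Set F)).ncard *
    (MulAction.orbit (P.K hA) (P.W₀ hA ω : Set V)).ncard * Nat.card F ^ (d + 1) ≤
      Nat.card Ω * (Nat.card (fixA hA P.v ω) * Nat.card (P.W₀ hA ω)) := by
  have := P.count hA hB hd ω (ι := Unit) (fun _ => ω) (fun _ => rfl) (fun _ => rfl) fun _ _ _ => rfl
  rwa [Nat.card_unique, one_mul] at this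

theorem orbit_lt_two_mul : (MulAction.orbit (P.K hA) (P.W₀ hA ω : Set V)).ncard <
    2 * Nat.card (P.W₀ hA ω) := by
  have : Finite V := Module.finite_of_finite F
  have h1 := P.count_one hA hB hd hq hN ω hω
  have h2 := P.moved_bound hA hB hd hq hN ω hω
  have h3 : Nat.card Ω * (Nat.card (fixA hA P.v ω) * Nat.card (P.W₀ hA ω)) <
      2 * (cls (fixA hA P.v ω : Set F)).ncard * Nat.card F ^ (d + 1) *
        Nat.card (P.W₀ hA ω) := by
    rw [← mul_assoc]
    exact Nat.mul_lt_mul_of_pos_right h2 Nat.card_pos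
  refine Nat.lt_of_mul_lt_mul_left
    (a := (cls (fixA hA P.v ω : Set F)).ncard * Nat.card F ^ (d + 1)) ?_
  linarith

/-- One orbit for each type, and no transvection of the centre in characteristic two. -/
theorem rigid (hsL : Nat.card (P.W₀ hA ω) ≤
    (MulAction.orbit (P.K hA) (P.W₀ hA ω : Set V)).ncard) :
    (∀ y, fixA hA P.v y = fixA hA P.v ω → P.W₀ hA y = P.W₀ hA ω →
      y ∈ MulAction.orbit (P.Q hA) ω) ∧ ((2 : F) = 0 → fixA hA P.v ω = ⊥) := by
  classical
  have : Finite V := Module.finite_of_finite F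
  set C := (cls (fixA hA P.v ω : Set F)).ncard
  set q := Nat.card F
  set a := Nat.card (fixA hA P.v ω)
  set s := Nat.card (P.W₀ hA ω)
  set L := (MulAction.orbit (P.K hA) (P.W₀ hA ω : Set V)).ncard
  refine ⟨fun y h1 h2 => ?_, fun h2 => ?_⟩
  · by_contra hne
    have hc := P.count hA hB hd ω (ι := Bool) (fun b => if b then ω else y)
      (fun b => by cases b <;> simp [h1]) (fun b => by cases b <;> simp [h2]) (fun i j hij => by
        cases i <;> cases j <;> simp only [↓reduceIte, Bool.false_eq_true] at hij ⊢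
        · exact absurd (MulAction.mem_orbit_symm.1 hij) hne
        · exact absurd hij hne)
    rw [Nat.card_eq_fintype_card, Fintype.card_bool] at hc
    have h4 := P.moved_bound hA hB hd hq hN ω hω
    change 2 * C * L * q ^ (d + 1) ≤ Nat.card Ω * (a * s) at hc
    change Nat.card Ω * a < 2 * C * q ^ (d + 1) at h4
    have h5 : Nat.card Ω * (a * s) < 2 * C * q ^ (d + 1) * s := by
      rw [← mul_assoc]; exact Nat.mul_lt_mul_of_pos_right h4 Nat.card_pos
    have h6 := Nat.mul_le_mul_left (2 * C * q ^ (d + 1)) hsL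
    linarith
  · by_contra hne
    obtain ⟨h2a, -, h3⟩ := cls_bound hω hq
    have ha1 : 1 < a := by
      rcases Nat.lt_or_ge 1 a with h | h
      · exact h
      · exact absurd (AddSubgroup.card_eq_one.1 (le_antisymm h Nat.card_pos)) hne
    have hC : a + 1 ≤ C := (h3 h2).2 ha1
    have h1 : C * L * q ^ (d + 1) ≤ Nat.card Ω * (a * s) := P.count_one hA hB hd hq hN ω hω
    have hq1 : 0 < q - 1 := by omega
    have hN' : Nat.card Ω * (q - 1) < q * q ^ (d + 1) := by
      rw [← pow_succ']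
      exact lt_of_lt_of_le (Nat.lt_succ_of_le (Nat.mul_le_mul_right _ (Nat.le_succ _))) hN
    have h4 : (a + 1) * L * q ^ (d + 1) * (q - 1) < a * L * (q * q ^ (d + 1)) := by
      calc (a + 1) * L * q ^ (d + 1) * (q - 1) ≤ C * L * q ^ (d + 1) * (q - 1) :=
            Nat.mul_le_mul_right _ (Nat.mul_le_mul_right _ (Nat.mul_le_mul_right _ hC))
        _ ≤ Nat.card Ω * (a * s) * (q - 1) := Nat.mul_le_mul_right _ h1
        _ = a * s * (Nat.card Ω * (q - 1)) := by ring
        _ < a * s * (q * q ^ (d + 1)) :=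
            Nat.mul_lt_mul_of_pos_left hN' (Nat.mul_pos (by omega) Nat.card_pos)
        _ ≤ _ := Nat.mul_le_mul_right _ (Nat.mul_le_mul_left _ hsL)
    obtain ⟨r, hr⟩ : ∃ r, q = r + 1 := ⟨q - 1, by omega⟩
    change 2 * a ≤ q at h2a
    rw [hr, Nat.add_sub_cancel] at h4
    rw [hr] at h2a
    have h5 : (a + 1) * r < a * (r + 1) := Nat.lt_of_mul_lt_mul_left
      (a := L * (r + 1) ^ (d + 1)) (by linarith)
    rw [add_mul, mul_add] at h5
    omega

omit hq hN hω in
theorem mem_span_of_perp (h2 : d = 2) {w w' : V} (hw : w ∈ P.W) (hw0 : w ≠ 0) (hw' : w' ∈ P.W)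
    (h : B w w' = 0) : w' ∈ Submodule.span F {w} := by
  have : Finite V := Module.finite_of_finite F
  have hsub : (Submodule.span F {w} : Set V) ⊆ {z : V | z ∈ P.W ∧ B w z = 0} := by
    intro z hz
    obtain ⟨c, rfl⟩ := Submodule.mem_span_singleton.1 hz
    exact ⟨P.W.smul_mem c hw, by simp [hA w]⟩
  have heq := Set.eq_of_subset_of_ncard_le hsub (le_of_eq (by
    rw [P.fibre_card hA hB hd hw hw0 0, ← Nat.card_coe_set_eq]
    show _ = Nat.card ↥(Submodule.span F {w})
    rw [Module.natCard_eq_pow_finrank (K := F) (V := ↥(Submodule.span F {w})),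
      finrank_span_singleton hw0, h2])) (Set.toFinite _)
  show w' ∈ (Submodule.span F {w} : Set V)
  rw [heq]
  exact ⟨hw', h⟩

/-- The possible projections of the stabiliser. -/
theorem classify (hd2 : d = 2 ∨ (4 ≤ d ∧ Even d)) :
    ((2 : F) = 0 ∧ (P.W₀ hA ω : Set V) = P.W) ∨
    (Nat.card (P.W₀ hA ω) ≤ (MulAction.orbit (P.K hA) (P.W₀ hA ω : Set V)).ncard ∧
      (P.W₀ hA ω = ⊥ ∨
      (d = 2 ∧ ∃ w ∈ P.W, w ≠ 0 ∧ (P.W₀ hA ω : Set V) = Submodule.span F {w}) ∨
      ((2 : F) = 0 ∧ ∃ u ∈ P.W, u ≠ 0 ∧ 4 ≤ d ∧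
        (P.W₀ hA ω : Set V) = {y | y ∈ P.W ∧ B u y = 0}))) := by
  classical
  have : Finite V := Module.finite_of_finite F
  have : Fintype F := Fintype.ofFinite F
  obtain ⟨p, hpc⟩ := CharP.exists F
  have hp : p.Prime := (CharP.char_is_prime_or_zero F p).resolve_right
    (CharP.char_ne_zero_of_finite F p)
  have : Fact p.Prime := ⟨hp⟩
  obtain ⟨n, -, hn⟩ := FiniteField.card F p
  rw [← Nat.card_eq_fintype_card] at hn
  set q := Nat.card F with hqdef
  set a := Nat.card (fixA hA P.v ω) with hadef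
  set s := Nat.card (P.W₀ hA ω) with hsdef
  set L := (MulAction.orbit (P.K hA) (P.W₀ hA ω : Set V)).ncard with hLdef
  have hs0 : 0 < s := Nat.card_pos
  have hL0 : 0 < L := (Set.ncard_pos (Set.toFinite _)).2 ⟨_, MulAction.mem_orbit_self _⟩
  by_cases hbot : P.W₀ hA ω = ⊥
  · refine Or.inr ⟨?_, Or.inl hbot⟩
    rw [hsdef, hbot, AddSubgroup.card_bot]
    exact hL0
  obtain ⟨w, hwT, hw0⟩ : ∃ w ∈ P.W₀ hA ω, w ≠ 0 := by
    by_contra hc
    push Not at hc
    exact hbot ((AddSubgroup.eq_bot_iff_forall _).2 hc)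
  have hwW : w ∈ P.W := P.W₀_le hA ω hwT
  have cardW : Nat.card P.W = q ^ d := by
    rw [Module.natCard_eq_pow_finrank (K := F), finrank_W hA hB hd]
  -- halving in odd characteristic
  have hodd : (2 : F) ≠ 0 → ∀ c, 2 * c ∈ fixA hA P.v ω → c ∈ fixA hA P.v ω := by
    intro h2 c hc
    have hp2 : p ≠ 2 := by
      rintro rfl
      exact h2 (by exact_mod_cast CharP.cast_eq_zero F 2)
    obtain ⟨m, hm⟩ := hp.odd_of_ne_two hp2
    have := (fixA hA P.v ω).nsmul_mem hc (m + 1)
    have hm' : ((p : ℕ) : F) = 2 * (m : F) + 1 := by rw [hm]; push_cast; ring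
    rw [CharP.cast_eq_zero] at hm'
    rw [nsmul_eq_mul] at this
    rwa [show ((m + 1 : ℕ) : F) * (2 * c) = c by
      push_cast
      linear_combination -c * hm'] at this
  by_cases hall : s = q ^ d
  · have heq : (P.W₀ hA ω : Set V) = P.W :=
      Set.eq_of_subset_of_ncard_le (P.W₀_le hA ω) (le_of_eq (by
        rw [← Nat.card_coe_set_eq, ← Nat.card_coe_set_eq]
        exact cardW.trans hall.symm)) (Set.toFinite _)
    by_cases h2 : (2 : F) = 0
    · exact Or.inl ⟨h2, heq⟩
    exfalso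
    obtain ⟨y, hy, hwy⟩ := exists_partner (nondeg_W hA hB (P := P)) hwW hw0
    refine hω ((AddSubgroup.eq_top_iff' _).2 fun c => hodd h2 c ?_)
    have hmem : ∀ z ∈ P.W, z ∈ P.W₀ hA ω := fun z hz => by
      rw [← SetLike.mem_coe, heq]; exact hz
    have := P.commutator_mem hA (hmem _ (P.W.smul_mem c hy)) hwT
    rwa [map_smul, smul_eq_mul, hwy, mul_one] at this
  -- the annihilator
  obtain ⟨φ, hφ, hφA⟩ := exists_char (p := p) hω
  set D := P.annih φ (P.W₀ hA ω : Set V) with hDdef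
  set δ := Nat.card D with hδdef
  have hDs : δ * s = q ^ d := P.card_annih φ hA hB hφ (P.W₀ hA ω) (P.W₀_le hA ω) hd
  have hslt : s < q ^ d := by
    refine lt_of_le_of_ne ?_ hall
    rw [← hDs]
    exact Nat.le_mul_of_pos_left _ Nat.card_pos
  have hδ2 : 2 ≤ δ := by
    rcases Nat.lt_or_ge δ 2 with h | h
    · interval_cases δ <;> omega
    · exact h
  have hlt2 : L < 2 * s := P.orbit_lt_two_mul hA hB hd hq hN ω hω
  have hLs := P.single_le hA hB (P.W₀ hA ω) hd hwT hwW hw0
  have hq2 : q ≤ q ^ 2 := Nat.le_self_pow two_ne_zero q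
  by_cases hsδ : s ≤ δ
  · -- small projection
    have hss : s * s ≤ q ^ d := hDs ▸ Nat.mul_le_mul_right s hsδ
    by_cases hline : ∀ x ∈ P.W₀ hA ω, x ∈ Submodule.span F {w}
    · have hcl : Nat.card ↥(Submodule.span F {w}) = q := by
        rw [Module.natCard_eq_pow_finrank (K := F), finrank_span_singleton hw0, pow_one]
      have hsq : s ≤ q := hcl ▸ Nat.card_le_card_of_injective
        (fun x : P.W₀ hA ω => (⟨x, hline x x.2⟩ : Submodule.span F {w}))
        fun x y e => Subtype.ext (congrArg (fun z : Submodule.span F {w} => (z : V)) e)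
      rcases hd2 with hd2 | ⟨hd4, -⟩
      · by_cases hseq : s = q
        · refine Or.inr ⟨?_, Or.inr (Or.inl ⟨hd2, w, hwW, hw0, ?_⟩)⟩
          · change q ^ d - 1 ≤ L * (s - 1) at hLs
            rw [hd2, hseq] at hLs
            show s ≤ L
            rw [hseq]
            by_contra hc
            push Not at hc
            have := Nat.mul_le_mul_right (q - 1) (Nat.le_of_lt hc)
            rw [Nat.mul_sub, Nat.mul_sub, mul_one, mul_one, ← sq] at this
            rw [Nat.mul_sub, mul_one] at hLs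
            have h1 : L * 1 ≤ L * q := Nat.mul_le_mul_left _ (by omega)
            omega
          · refine Set.eq_of_subset_of_ncard_le hline (le_of_eq ?_) (Set.toFinite _)
            rw [← Nat.card_coe_set_eq, ← Nat.card_coe_set_eq]
            exact hcl.trans hseq.symm
        · exfalso
          have h2s : 2 * s ≤ q := by
            rw [hn]
            exact two_mul_le_of_dvd (m := d) hp (hn ▸ ⟨δ, by rw [← hDs, mul_comm]⟩)
              (hn ▸ lt_of_le_of_ne hsq hseq)
          change q ^ d - 1 ≤ L * (s - 1) at hLs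
          rw [hd2] at hLs
          have h1 := Nat.mul_le_mul hlt2.le (Nat.sub_le s 1)
          have h2 := Nat.mul_le_mul h2s h2s
          have h3 := Nat.mul_le_mul hq hq
          rw [show 2 * s * (2 * s) = 2 * (2 * s * s) by ring, ← sq q] at h2
          rw [← sq q] at h3
          omega
      · exfalso
        change q ^ d - 1 ≤ L * (s - 1) at hLs
        have h1 := Nat.mul_le_mul hlt2.le ((Nat.sub_le s 1).trans hsq)
        have h2 := Nat.mul_le_mul_left 2 (Nat.mul_le_mul_right q hsq)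
        have h3 : q ^ 4 ≤ q ^ d := Nat.pow_le_pow_right (by omega) hd4
        have h4 : 9 * (q * q) ≤ q ^ 4 := by nlinarith [Nat.mul_le_mul hq hq]
        rw [mul_assoc] at h1
        have h5 : 9 ≤ q * q := Nat.mul_le_mul hq hq
        omega
    push Not at hline
    obtain ⟨w', hw'T, hw'⟩ := hline
    exfalso
    have hw'W := P.W₀_le hA ω hw'T
    rcases hd2 with hd2 | ⟨hd4, g, hg⟩
    · subst hd2
      have hsq : s ≤ q := (Nat.pow_le_pow_iff_left two_ne_zero).1 (by rwa [sq])
      have hc : B w w' ≠ 0 := fun h =>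
        hw' (P.mem_span_of_perp hA hB hd rfl hwW hw0 hw'W h)
      have hb := P.hyp_bound hA hB (P.W₀ hA ω) hp hd hwT hw'T hwW hw'W hc
      change p * (q ^ (2 - 1) * (q ^ 2 - 1)) ≤ L * (s - 1) * s at hb
      rw [show 2 - 1 = 1 from rfl, pow_one] at hb
      have hs1 : L * (s - 1) * s ≤ L * (s * s) := by
        rw [mul_assoc]; exact Nat.mul_le_mul_left _ (Nat.mul_le_mul_right _ (Nat.sub_le _ _))
      have h9 : 9 ≤ q ^ 2 := Nat.pow_le_pow_left hq 2
      obtain ⟨r, hr⟩ : ∃ r, q ^ 2 = r + 1 := ⟨q ^ 2 - 1, by omega⟩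
      rw [hr, Nat.add_sub_cancel] at hb
      by_cases hp2 : p = 2
      · subst hp2
        have h2 : (2 : F) = 0 := by exact_mod_cast CharP.cast_eq_zero F 2
        have hC := ((cls_bound hω hq).2.2 h2).1
        have h1 : a * (L * q ^ 3) ≤ a * (Nat.card Ω * s) := by
          have := (Nat.mul_le_mul_right _ (Nat.mul_le_mul_right L hC)).trans
            (P.count_one hA hB hd hq hN ω hω)
          rw [show 2 + 1 = 3 from rfl] at this
          linarith
        have h1' := Nat.le_of_mul_le_mul_left h1 Nat.card_pos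
        have h3 : 2 * (q * r) * q ^ 3 ≤ Nat.card Ω * (q * q * q) := by
          refine le_trans (Nat.mul_le_mul_right _ (hb.trans hs1)) ?_
          calc L * (s * s) * q ^ 3 = L * q ^ 3 * (s * s) := by ring
            _ ≤ Nat.card Ω * s * (s * s) := Nat.mul_le_mul_right _ h1'
            _ ≤ Nat.card Ω * q * (q * q) :=
              Nat.mul_le_mul (Nat.mul_le_mul_left _ hsq) (Nat.mul_le_mul hsq hsq)
            _ = _ := by ring
        have h4 : 2 * (q * r) ≤ Nat.card Ω :=
          Nat.le_of_mul_le_mul_right (by linarith) (show 0 < q ^ 3 by positivity)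
        obtain ⟨e, he⟩ : ∃ e, q = e + 1 := ⟨q - 1, by omega⟩
        rw [he, Nat.add_sub_cancel] at hN
        rw [he] at h4 hr
        have h5 := Nat.mul_le_mul_right e h4
        have hr' : r = e * e + 2 * e := by linarith
        subst hr'
        have he2 : 2 ≤ e := by omega
        have h6 := Nat.mul_le_mul_right (e * e * e) he2
        have h7 := Nat.mul_le_mul_right (e * e) he2
        have h8 := Nat.mul_le_mul_right e he2
        rw [show (2 + 2 : ℕ) = 4 from rfl] at hN
        linarith [show 0 ≤ e * e * e * e from Nat.zero_le _, hN, h5, h6, h7, h8, he2]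
      · have hp3 : 3 ≤ p := by have := hp.two_le; omega
        have h1 : 3 * (q * r) ≤ L * (s * s) :=
          (Nat.mul_le_mul_right _ hp3).trans (hb.trans hs1)
        have h2 : L * (s * s) ≤ 2 * (q * (q * q)) :=
          (Nat.mul_le_mul hlt2.le le_rfl).trans (by
            rw [mul_assoc]
            exact Nat.mul_le_mul_left 2 (Nat.mul_le_mul hsq (Nat.mul_le_mul hsq hsq)))
        nlinarith
    · obtain ⟨g, rfl⟩ : ∃ g', g = g' + 2 := ⟨g - 2, by omega⟩
      have hsq : s ≤ q ^ (g + 2) := (Nat.pow_le_pow_iff_left two_ne_zero).1 (by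
        rw [sq, ← pow_mul, show (g + 2) * 2 = d by omega]; exact hss)
      have hb := P.pair_bound hA hB (P.W₀ hA ω) hd hwT hw'T hwW hw'W hw0 hw'
      have hnum := pair_num (g := g) hq
      rw [show 2 * (g + 2) = d by omega] at hnum
      have h1 : L * (s - 1) * s < 2 * (q ^ (g + 2)) ^ 3 := by
        calc L * (s - 1) * s ≤ L * s * s :=
              Nat.mul_le_mul_right _ (Nat.mul_le_mul_left _ (Nat.sub_le _ _))
          _ < 2 * s * s * s := Nat.mul_lt_mul_of_pos_right
              (Nat.mul_lt_mul_of_pos_right hlt2 hs0) hs0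
          _ = 2 * s ^ 3 := by ring
          _ ≤ _ := Nat.mul_le_mul_left _ (Nat.pow_le_pow_left hsq 3)
      change (q ^ (d - 1) - q) * (q ^ d - 1) ≤ L * (s - 1) * s at hb
      omega
  -- large projection
  push Not at hsδ
  have h2 : (2 : F) = 0 := by
    by_contra h2
    refine absurd (Nat.card_le_card_of_injective (fun x : P.W₀ hA ω => (⟨x, P.W₀_le hA ω x.2,
      fun y hy => hφA _ (hodd h2 _ (P.commutator_mem hA hy x.2))⟩ : D))
      fun x y e => Subtype.ext (congrArg (fun z : D => (z : V)) e)) (not_le.2 hsδ)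
  have hC := ((cls_bound hω hq).2.2 h2).1
  have hNd : q * L * δ ≤ Nat.card Ω := by
    have h1 : a * (L * q ^ (d + 1)) ≤ a * (Nat.card Ω * s) := by
      have := (Nat.mul_le_mul_right _ (Nat.mul_le_mul_right L hC)).trans
        (P.count_one hA hB hd hq hN ω hω)
      linarith
    refine Nat.le_of_mul_le_mul_right ?_ (show 0 < q ^ d by positivity)
    calc q * L * δ * q ^ d = L * q ^ (d + 1) * δ := by ring
      _ ≤ Nat.card Ω * s * δ :=
        Nat.mul_le_mul_right _ (Nat.le_of_mul_le_mul_left h1 Nat.card_pos)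
      _ = Nat.card Ω * (δ * s) := by ring
      _ = _ := by rw [hDs]
  obtain ⟨u, huD, hu0⟩ : ∃ u ∈ D, u ≠ 0 := by
    by_contra hc
    push Not at hc
    rw [hδdef, (AddSubgroup.eq_bot_iff_forall _).2 hc, AddSubgroup.card_bot] at hδ2
    omega
  have huW : u ∈ P.W := huD.1
  have hLD : (MulAction.orbit (P.K hA) (D : Set V)).ncard ≤ L := P.orbit_annih_le φ hA _
  have hLD1 : q ^ d - 1 ≤ L * (δ - 1) :=
    (P.single_le hA hB D hd huD huW hu0).trans (Nat.mul_le_mul_right _ hLD)
  have hsmall : δ < q → False := fun hδq => by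
    have h2δ : 2 * δ ≤ q := by
      rw [hn]
      exact two_mul_le_of_dvd (m := d) hp (hn ▸ ⟨s, hDs.symm⟩) (hn ▸ hδq)
    obtain ⟨e, he⟩ : ∃ e, q = e + 1 := ⟨q - 1, by omega⟩
    obtain ⟨j, hj⟩ : ∃ j, δ = j + 1 := ⟨δ - 1, by omega⟩
    obtain ⟨Z, hZ⟩ : ∃ Z, q ^ d = Z + 1 :=
      ⟨q ^ d - 1, (Nat.sub_add_cancel (Nat.one_le_pow _ _ (by omega))).symm⟩
    rw [hZ, hj, Nat.add_sub_cancel, Nat.add_sub_cancel] at hLD1
    rw [pow_add, hZ, he, Nat.add_sub_cancel] at hN
    rw [hj, he] at hNd h2δ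
    have hZ1 : e + 1 ≤ Z + 1 := by
      rw [← hZ, ← he]
      exact Nat.le_self_pow (by rcases hd2 with h | ⟨h, -⟩ <;> omega) q
    have h5 : (e + 1) * Z * (j + 1) * e ≤ Nat.card Ω * j * e := by
      refine Nat.mul_le_mul_right e ?_
      calc (e + 1) * Z * (j + 1) ≤ (e + 1) * (L * j) * (j + 1) :=
            Nat.mul_le_mul_right _ (Nat.mul_le_mul_left _ hLD1)
        _ = (e + 1) * L * (j + 1) * j := by ring
        _ ≤ _ := Nat.mul_le_mul_right _ hNd
    have h6 : Nat.card Ω * e * j ≤ (Z + 1) * (e + 1) ^ 2 * j :=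
      Nat.mul_le_mul_right j (by linarith)
    have h7 := Nat.mul_le_mul_left ((e + 1) * Z) h2δ
    have h8 := Nat.mul_le_mul_left (j * (e + 1)) hZ1
    nlinarith
  by_cases hline : ∀ x ∈ D, x ∈ Submodule.span F {u}
  · have hcl : Nat.card ↥(Submodule.span F {u}) = q := by
      rw [Module.natCard_eq_pow_finrank (K := F), finrank_span_singleton hu0, pow_one]
    have hδq : δ ≤ q := hcl ▸ Nat.card_le_card_of_injective
      (fun x : D => (⟨x, hline x x.2⟩ : Submodule.span F {u}))
      fun x y e => Subtype.ext (congrArg (fun z : Submodule.span F {u} => (z : V)) e)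
    rcases hδq.lt_or_eq with hlt | heq
    · exact (hsmall hlt).elim
    rcases hd2 with hd2 | ⟨hd4, -⟩
    · exfalso
      rw [heq, hd2] at hDs
      rw [heq] at hsδ
      nlinarith
    have hDeq : (D : Set V) = Submodule.span F {u} := by
      refine Set.eq_of_subset_of_ncard_le hline (le_of_eq ?_) (Set.toFinite _)
      rw [← Nat.card_coe_set_eq, ← Nat.card_coe_set_eq]
      exact hcl.trans heq.symm
    have hpow : q ^ d = q * q ^ (d - 1) := by
      rw [← pow_succ', Nat.sub_add_cancel (by omega : 1 ≤ d)]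
    have hs_eq : s = q ^ (d - 1) := by
      rw [heq, hpow] at hDs
      exact Nat.eq_of_mul_eq_mul_left (by omega) hDs
    refine Or.inr ⟨?_, Or.inr (Or.inr ⟨h2, u, huW, hu0, hd4, ?_⟩)⟩
    · rw [heq, hpow] at hLD1
      show s ≤ L
      rw [hs_eq]
      by_contra hc
      push Not at hc
      have := Nat.mul_le_mul_right (q - 1) (Nat.succ_le_of_lt hc)
      rw [Nat.succ_eq_add_one, add_mul, Nat.mul_sub, Nat.mul_sub, Nat.mul_sub] at this
      have h1 : 1 ≤ q ^ (d - 1) := Nat.one_le_pow _ _ (by omega)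
      have h4 : L * 1 ≤ L * q := Nat.mul_le_mul_left _ (by omega)
      have h5 : q ^ (d - 1) * 1 ≤ q ^ (d - 1) * q := Nat.mul_le_mul_left _ (by omega)
      rw [Nat.mul_sub] at hLD1
      simp only [mul_comm q] at hLD1
      omega
    · refine Set.eq_of_subset_of_ncard_le (fun y hy => ⟨P.W₀_le hA ω hy, ?_⟩) (le_of_eq ?_)
        (Set.toFinite _)
      · by_contra hne
        refine hφ (AddMonoidHom.ext fun c => ?_)
        have hmem : (c / B u y) • u ∈ D := by
          rw [← SetLike.mem_coe, hDeq]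
          exact Submodule.smul_mem _ _ (Submodule.mem_span_singleton_self u)
        have := hmem.2 y hy
        rw [map_smul, LinearMap.smul_apply, smul_eq_mul, div_mul_cancel₀ _ hne] at this
        exact this
      · rw [P.fibre_card hA hB hd huW hu0 0, ← Nat.card_coe_set_eq]
        exact hs_eq.symm
  push Not at hline
  obtain ⟨u', hu'D, hu'⟩ := hline
  exfalso
  rcases hd2 with hd2 | ⟨hd4, g, hg⟩
  · refine hsmall ?_
    rw [hd2] at hDs
    by_contra hc
    push Not at hc
    nlinarith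
  · obtain ⟨g, rfl⟩ : ∃ g', g = g' + 2 := ⟨g - 2, by omega⟩
    have hδq : δ ≤ q ^ (g + 2) := (Nat.pow_le_pow_iff_left two_ne_zero).1 (by
      rw [sq, ← pow_mul, show (g + 2) * 2 = d by omega, ← hDs]
      exact Nat.mul_le_mul_left _ hsδ.le)
    have hb := P.pair_bound hA hB D hd huD hu'D huW hu'D.1 hu0 hu'
    have hnum := pair_num (g := g) hq
    rw [show 2 * (g + 2) = d by omega] at hnum
    have hdy : q ^ d = q ^ (g + 2) * q ^ (g + 2) := by
      rw [← pow_add]; congr 1
    have h1 : 2 * (q ^ (g + 2)) ^ 3 ≤ L * δ * q ^ (g + 2) :=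
      hnum.trans (hb.trans (Nat.mul_le_mul (Nat.mul_le_mul hLD (Nat.sub_le _ _)) hδq))
    have h3 : 2 * q ^ d ≤ L * δ := Nat.le_of_mul_le_mul_right
      (by rw [hdy]; linarith) (show 0 < q ^ (g + 2) by positivity)
    obtain ⟨e, he⟩ : ∃ e, q = e + 1 := ⟨q - 1, by omega⟩
    have h4 : q * (2 * q ^ d) ≤ Nat.card Ω :=
      (Nat.mul_le_mul_left q h3).trans ((mul_assoc _ _ _).ge.trans hNd)
    rw [pow_add, he, Nat.add_sub_cancel] at hN
    rw [he] at h4 hq
    have h5 := Nat.mul_le_mul_right e h4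
    have h6 : 2 ≤ e := by omega
    nlinarith [Nat.mul_le_mul_left ((e + 1) * (e + 1) ^ d) h6]

end Pair

end CfsgLib.Classical.MinIndexPSp
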