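import Cfsg.Agent.Lib.Classical.MinIndexPSp.Geometry

/-!
In characteristic two a subgroup cannot meet every unipotent radical in a complement of its centre.
-/

set_option autoImplicit false

namespace CfsgLib.Classical.MinIndexPSp

open LinearMap (BilinForm)
open CfsgLib.Classical.Symp

variable {F : Type*} [Field F] [Finite F] {V : Type*} [AddCommGroup V] [Module F V]
  [FiniteDimensional F V] {B : BilinForm F V}

theorem false_of_all_whole (hA : B.IsAlt) (hB : B.Nondegenerate) (hq : 3 ≤ Nat.card F)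
    (hV : 4 ≤ Module.finrank F V) (h2 : (2 : F) = 0) (H : Subgroup (Sp B))
    (hno : ∀ v, v ≠ 0 → ∃ c, tr hA v c ∉ H)
    (hall : ∀ v, v ≠ 0 → ∀ w, B v w = 0 → ∃ a, mtr hA v w 1 * tr hA v a ∈ H) : False := by
  classical
  have hperp : ∀ y : V, y ≠ 0 → ∃ u, B y u = 0 ∧ u ∉ Submodule.span F {y} := fun y hy => by
    obtain ⟨u, h1, h2⟩ := exists_perp_notMem hA hB (Submodule.span F {y})
      (by rw [finrank_span_singleton hy]; omega)
    exact ⟨u, h1 y (Submodule.mem_span_singleton_self y), h2⟩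
  have hspan : ∀ {y z : V}, y ∉ Submodule.span F {z} → z ≠ 0 → z ∉ Submodule.span F {y} := by
    intro y z hy hz hm
    obtain ⟨a, ha⟩ := Submodule.mem_span_singleton.1 hm
    have ha0 : a ≠ 0 := fun e => hz (by rw [← ha, e, zero_smul])
    exact hy (Submodule.mem_span_singleton.2 ⟨a⁻¹, by rw [← ha, inv_smul_smul₀ ha0]⟩)
  -- shifting a vector along an orthogonal one
  have step : ∀ y v, v ≠ 0 → B y v = 0 → y ∉ Submodule.span F {v} →
      ∃ h ∈ H, ap h y = y + v := by
    intro y v hv hyv hy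
    obtain ⟨z, hz1, hz2⟩ := exists_perp_apply_ne_zero hA hB hy
    set w := (B y z)⁻¹ • z
    have hvw : B v w = 0 := by simp [w, hz1]
    obtain ⟨a, ha⟩ := hall v hv w hvw
    refine ⟨_, ha, ?_⟩
    rw [ap_mul, show ap (tr hA v a) y = y from tr_fix hA a hyv, ap, mtr_apply hA hvw]
    simp [hyv, w, hz2]
  have pairT : ∀ y z, y ≠ 0 → z ≠ 0 → B y z = 0 → y ∉ Submodule.span F {z} →
      ∃ h ∈ H, ap h y = z := by
    intro y z hy hz hyz hni
    obtain ⟨h₁, hh₁, e₁⟩ := step y z hz hyz hni
    obtain ⟨h₂, hh₂, e₂⟩ := step z y hy (by rw [swap hA y z, hyz, neg_zero]) (hspan hni hz)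
    refine ⟨h₂⁻¹ * h₁, H.mul_mem (H.inv_mem hh₂) hh₁, ?_⟩
    rw [ap_mul, e₁, add_comm, ← e₂, ap_inv_apply]
  have trans' : ∀ y z, y ≠ 0 → z ≠ 0 → ∃ h ∈ H, ap h y = z := by
    intro y z hy hz
    obtain ⟨u, hu1, hu2, hu3, hu4⟩ : ∃ u, B y u = 0 ∧ B u z = 0 ∧ y ∉ Submodule.span F {u} ∧
        u ∉ Submodule.span F {z} := by
      obtain ⟨u₀, h0, h0'⟩ := hperp y hy
      by_cases hyz : B y z = 0
      · by_cases hm : z ∈ Submodule.span F {y}
        · obtain ⟨a, rfl⟩ := Submodule.mem_span_singleton.1 hm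
          have ha0 : a ≠ 0 := fun e => hz (by rw [e, zero_smul])
          refine ⟨u₀, h0, by rw [map_smul, swap hA y u₀, h0, neg_zero, smul_zero],
            hspan h0' hy, fun hm' => ?_⟩
          obtain ⟨b, hb⟩ := Submodule.mem_span_singleton.1 hm'
          exact h0' (Submodule.mem_span_singleton.2 ⟨b * a, by rw [mul_smul, hb]⟩)
        · -- orthogonal and independent
          refine ⟨y + z, by simp [hA y, hyz], by simp [hA z, hyz], fun h => ?_, fun h => ?_⟩
          · obtain ⟨a, ha⟩ := Submodule.mem_span_singleton.1 h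
            by_cases ha0 : a = 0
            · rw [ha0, zero_smul] at ha; exact hy ha.symm
            · refine hm (Submodule.mem_span_singleton.2 ⟨(1 - a) / a, ?_⟩)
              have e : a • z = (1 - a) • y := by linear_combination (norm := module) ha
              rw [div_eq_inv_mul, mul_smul, ← e, inv_smul_smul₀ ha0]
          · have := Submodule.sub_mem _ h (Submodule.mem_span_singleton_self z)
            rw [add_sub_cancel_right] at this
            exact hspan hm hy this
      · have hzy : B z y ≠ 0 := by rwa [swap hA y z, neg_ne_zero]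
        set u := u₀ - (B z u₀ / B z y) • y with hu
        have hzu : B z u = 0 := by simp [hu, hzy]
        have hne : u ≠ 0 := by
          intro e
          rw [hu, sub_eq_zero] at e
          exact h0' (Submodule.mem_span_singleton.2 ⟨_, e.symm⟩)
        refine ⟨u, by simp [hu, hA y, h0], by rw [swap hA z u, hzu, neg_zero], fun h => ?_,
          fun h => ?_⟩
        · obtain ⟨a, ha⟩ := Submodule.mem_span_singleton.1 h
          exact hzy (by rw [← ha, map_smul, hzu, smul_zero])
        · obtain ⟨a, ha⟩ := Submodule.mem_span_singleton.1 h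
          have ha0 : a ≠ 0 := fun e => hne (by rw [← ha, e, zero_smul])
          have h1 : B y u = 0 := by simp [hu, hA y, h0]
          rw [← ha, map_smul, smul_eq_mul] at h1
          exact hyz ((mul_eq_zero.1 h1).resolve_left ha0)
    have hu0 : u ≠ 0 := fun e => hu4 (by rw [e]; exact zero_mem _)
    obtain ⟨h₁, hh₁, e₁⟩ := pairT y u hy hu0 hu1 hu3
    obtain ⟨h₂, hh₂, e₂⟩ := pairT u z hu0 hz hu2 hu4
    exact ⟨h₂ * h₁, H.mul_mem hh₂ hh₁, by rw [ap_mul, e₁, e₂]⟩
  -- no transvection at all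
  have : Fintype F := Fintype.ofFinite F
  have : CharP F 2 := CharTwo.of_one_ne_zero_of_two_eq_zero one_ne_zero h2
  have hA0 : ∀ v, v ≠ 0 → ∀ a, tr hA v a ∈ H → a = 0 := by
    intro v hv a ha
    by_contra ha0
    obtain ⟨c, hc⟩ := hno v hv
    obtain ⟨α, hα⟩ := FiniteField.isSquare_of_char_two ((ringChar.eq_iff).2 inferInstance) (c / a)
    by_cases hα0 : α = 0
    · rw [hα0, mul_zero, div_eq_zero_iff] at hα
      exact hc (by rw [hα.resolve_right ha0, tr_zero]; exact H.one_mem)
    obtain ⟨h, hh, e⟩ := trans' v (α • v) hv (smul_ne_zero hα0 hv)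
    refine hc ?_
    rw [show c = α ^ 2 * a by rw [sq, ← hα, div_mul_cancel₀ _ ha0], ← tr_smul_vec, ← e,
      ← conj_tr hA h]
    exact H.mul_mem (H.mul_mem hh ha) (H.inv_mem hh)
  have huniq : ∀ v, v ≠ 0 → ∀ w a b, mtr hA v w 1 * tr hA v a ∈ H →
      mtr hA v w 1 * tr hA v b ∈ H → a = b := by
    intro v hv w a b ha hb
    have := H.mul_mem (H.inv_mem ha) hb
    rw [mul_inv_rev, tr_inv, mul_assoc, inv_mul_cancel_left, tr_mul] at this
    exact (neg_add_eq_zero.1 (hA0 v hv _ this))
  have hneg : ∀ y : F, -y = y := fun y => by linear_combination (-y) * h2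
  -- a shift
  have shift : ∀ v w u, v ≠ 0 → w ≠ 0 → B v w = 0 → B v u = 0 → B u w = 1 → ∀ r μ c : F,
      mtr hA w (r • v) 1 * tr hA w c ∈ H →
        mtr hA v ((c * μ) • w) 1 * tr hA v (c * μ ^ 2) ∈ H := by
    intro v w u hv hw hvw hvu huw r μ c hc
    obtain ⟨f, -, hvf⟩ := exists_partner (nondeg_top hB) (Submodule.mem_top (x := v)) hv
    let P : Pair B := ⟨v, f, hvf⟩
    have hwv : B w (r • v) = 0 := by rw [map_smul, swap hA v w, hvw, neg_zero, smul_zero]
    set h := mtr hA w (r • v) 1 * tr hA w c with hh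
    have huv : B u v = 0 := by rw [swap hA v u, hvu, neg_zero]
    have hhv : ap h v = v := by
      rw [hh, ap_mul, show ap (tr hA w c) v = v from tr_fix hA c hvw, ap, mtr_apply hA hwv]
      simp [hvw, hA v]
    have hhu : ap h (μ • u) = μ • u + (c * μ) • w + (μ * r) • v := by
      rw [hh, ap_mul, ap, ap, tr_apply, mtr_apply hA hwv]
      simp only [map_add, map_smul, LinearMap.add_apply, LinearMap.smul_apply, smul_eq_mul, huw,
        huv, hA w, hA v, hvw, swap hA v w]
      module
    have hvμ : B v (μ • u) = 0 := by simp [hvu]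
    obtain ⟨a, ha⟩ := hall v hv (μ • u) hvμ
    have hconj := H.mul_mem (H.mul_mem hc ha) (H.inv_mem hc)
    rw [show h * (mtr hA v (μ • u) 1 * tr hA v a) * h⁻¹ =
      (h * mtr hA v (μ • u) 1 * h⁻¹) * (h * tr hA v a * h⁻¹) by group, conj_mtr, conj_tr,
      show (h : V ≃ₗ[F] V) v = v from hhv, show (h : V ≃ₗ[F] V) (μ • u) = _ from hhu,
      mtr_add_smul_self hA (by simp [hvu, hvw]), h2, zero_mul, tr_zero, mul_one] at hconj
    have hp := H.mul_mem ha hconj
    rw [show mtr hA v (μ • u) 1 * tr hA v a = P.El hA (μ • u) a from rfl,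
      show mtr hA v (μ • u + (c * μ) • w) 1 * tr hA v a = P.El hA (μ • u + (c * μ) • w) a from rfl,
      P.El_mul hA hvμ (by simp [P, hvu, hvw])] at hp
    have htwo : (2 : F) • (μ • u) = 0 := by rw [h2, zero_smul]
    rw [show μ • u + (μ • u + (c * μ) • w) = (c * μ) • w by
      rw [← add_assoc, ← two_smul F (μ • u), htwo, zero_add]] at hp
    rwa [show a + a + B (μ • u + (c * μ) • w) (μ • u) = c * μ ^ 2 by
      simp [hA u, swap hA u w, huw, hneg]
      linear_combination a * h2] at hp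
  have hpartner : ∀ v w, w ∉ Submodule.span F {v} → ∃ u, B v u = 0 ∧ B u w = 1 := by
    intro v w hw
    obtain ⟨z, hz1, hz2⟩ := exists_perp_apply_ne_zero hA hB hw
    refine ⟨(B z w)⁻¹ • z, by simp [hz1], ?_⟩
    rw [map_smul, LinearMap.smul_apply, smul_eq_mul, inv_mul_cancel₀]
    rwa [swap hA w z, neg_ne_zero]
  -- the parameters vanish
  have hzero : ∀ v w, v ≠ 0 → w ≠ 0 → B v w = 0 → w ∉ Submodule.span F {v} →
      mtr hA w v 1 * tr hA w 0 ∈ H := by
    intro v w hv hw hvw hni
    have hwv : B w v = 0 := by rw [swap hA v w, hvw, neg_zero]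
    obtain ⟨c, hc⟩ := hall w hw v hwv
    suffices c = 0 by rwa [this] at hc
    by_contra hc0
    obtain ⟨u, hvu, huw⟩ := hpartner v w hni
    obtain ⟨u', hwu', hu'v⟩ := hpartner w v (hspan hni hv)
    -- the parameter at the first vector along the second
    have k1 : ∀ μ, mtr hA v ((c * μ) • w) 1 * tr hA v (c * μ ^ 2) ∈ H := fun μ =>
      shift v w u hv hw hvw hvu huw 1 μ c (by rwa [one_smul])
    obtain ⟨β, hβ0, hβ1⟩ := exists_ne_zero_ne hq (1 : F)
    have hv1 : ∀ r, mtr hA v (r • w) 1 * tr hA v (r ^ 2 / c) ∈ H := fun r => by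
      have := k1 (r / c)
      rwa [mul_div_cancel₀ _ hc0, show c * (r / c) ^ 2 = r ^ 2 / c by field_simp] at this
    have k2 : ∀ r μ, mtr hA w ((r ^ 2 / c * μ) • v) 1 * tr hA w (r ^ 2 / c * μ ^ 2) ∈ H :=
      fun r μ => shift w v u' hw hv hwv hwu' hu'v r μ _ (hv1 r)
    have e1 := k2 β (c / β ^ 2)
    have e2 := k2 1 c
    rw [show β ^ 2 / c * (c / β ^ 2) = (1 : F) by field_simp,
      show β ^ 2 / c * (c / β ^ 2) ^ 2 = c / β ^ 2 by field_simp] at e1
    rw [show (1 : F) ^ 2 / c * c = 1 by field_simp,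
      show (1 : F) ^ 2 / c * c ^ 2 = c by field_simp] at e2
    have h3 := huniq w hw _ _ _ e1 e2
    have h4 : (β - 1) ^ 2 = 0 := by
      have : c = c * β ^ 2 := by
        conv_lhs => rw [show c = c / β ^ 2 * β ^ 2 by field_simp]
        rw [h3]
      have h5 : β ^ 2 = 1 := by
        rw [eq_comm, mul_eq_left₀ hc0] at this
        exact this
      linear_combination h5 + (1 - β) * h2
    exact hβ1 (sub_eq_zero.1 (pow_eq_zero_iff two_ne_zero |>.1 h4))
  have : Nontrivial V := Module.nontrivial_of_finrank_pos (R := F) (by omega)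
  obtain ⟨v, hv⟩ := exists_ne (0 : V)
  obtain ⟨w, hvw, hw⟩ := hperp v hv
  obtain ⟨u, hvu, huw⟩ := hpartner v w hw
  have hni : ∀ x, B x w ≠ 0 → x ∉ Submodule.span F {v} := fun x hx hm => by
    obtain ⟨a, rfl⟩ := Submodule.mem_span_singleton.1 hm
    simp [hvw] at hx
  have hw0 : w ≠ 0 := fun e => hw (by rw [e]; exact zero_mem _)
  have hu0 : u ≠ 0 := fun e => by simp [e] at huw
  have hsum0 : u + w ≠ 0 := fun e => by
    have := congrArg (fun x => B x w) e
    simp [hA w, huw] at this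
  have z1 := hzero u v hu0 hv (by rw [swap hA v u, hvu, neg_zero])
    (hspan (hni u (by rw [huw]; exact one_ne_zero)) hv)
  have z2 := hzero w v hw0 hv (by rw [swap hA v w, hvw, neg_zero]) (hspan hw hv)
  have z3 := hzero (u + w) v hsum0 hv (by simp [swap hA v u, swap hA v w, hvu, hvw])
    (hspan (hni (u + w) (by simp [hA w, huw])) hv)
  obtain ⟨f, -, hvf⟩ := exists_partner (nondeg_top hB) (Submodule.mem_top (x := v)) hv
  let P : Pair B := ⟨v, f, hvf⟩
  have hp := H.mul_mem z1 z2
  rw [show mtr hA v u 1 * tr hA v 0 = P.El hA u 0 from rfl,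
    show mtr hA v w 1 * tr hA v 0 = P.El hA w 0 from rfl, P.El_mul hA hvu hvw] at hp
  have := huniq v hv _ _ _ hp z3
  rw [swap hA u w, huw, zero_add, zero_add, neg_eq_zero] at this
  exact one_ne_zero this

end CfsgLib.Classical.MinIndexPSp
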