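import Cfsg.Agent.Lib.Classical.MinIndexPSp.Classify

/-!
A point of an orbit of the unipotent radical normalised by a torus is fixed by the symplectic group
of the complement, and a hyperplane cannot be the projection of a stabiliser.
-/

set_option autoImplicit false

namespace CfsgLib.Classical.MinIndexPSp

open LinearMap (BilinForm)
open CfsgLib.Classical.Symp
open scoped Pointwise

theorem exists_sq_ne_one {F : Type*} [Field F] [Finite F] (hq : 4 ≤ Nat.card F) :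
    ∃ a : F, a ≠ 0 ∧ a ^ 2 ≠ 1 := by
  classical
  have : Fintype F := Fintype.ofFinite F
  rw [Nat.card_eq_fintype_card] at hq
  by_contra hc
  push Not at hc
  have hsub : (Finset.univ : Finset F) ⊆ {0, 1, -1} := fun a _ => by
    by_cases ha : a = 0
    · simp [ha]
    · rcases sq_eq_one_iff.1 (hc a ha) with h | h <;> simp [h]
  have h1 := Finset.card_le_card hsub
  rw [Finset.card_univ] at h1
  have h2 : ({0, 1, -1} : Finset F).card ≤ 3 := Finset.card_le_three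
  omega

theorem exists_ne_zero_ne {F : Type*} [Field F] [Finite F] (hq : 3 ≤ Nat.card F) (x : F) :
    ∃ a : F, a ≠ 0 ∧ a ≠ x := by
  classical
  have : Fintype F := Fintype.ofFinite F
  rw [Nat.card_eq_fintype_card] at hq
  by_contra hc
  push Not at hc
  have hsub : (Finset.univ : Finset F) ⊆ {0, x} := fun a _ => by
    by_cases ha : a = 0
    · simp [ha]
    · simp [hc a ha]
  have h1 := Finset.card_le_card hsub
  rw [Finset.card_univ] at h1
  have h2 : ({0, x} : Finset F).card ≤ 2 := Finset.card_le_two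
  omega

variable {F : Type*} [Field F] {V : Type*} [AddCommGroup V] [Module F V] {B : BilinForm F V}
  (hA : B.IsAlt) {Ω : Type*} [MulAction (Sp B) Ω]

theorem comm_fix {g h : Sp B} {v : V} (hg : ap g v = v) (hh : ap h v = v) {x : Ω} {b b' : F}
    (eg : g • x = tr hA v b • x) (eh : h • x = tr hA v b' • x) :
    (g * h * g⁻¹ * h⁻¹) • x = x := by
  have cg : ∀ c, g * tr hA v c = tr hA v c * g := fun c => by
    have := conj_tr hA g v c
    rw [show (g : V ≃ₗ[F] V) v = v from hg] at this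
    conv_rhs => rw [← this]
    group
  have ch : ∀ c, h * tr hA v c = tr hA v c * h := fun c => by
    have := conj_tr hA h v c
    rw [show (h : V ≃ₗ[F] V) v = v from hh] at this
    conv_rhs => rw [← this]
    group
  have e : (g * h) • x = (h * g) • x := by
    rw [mul_smul, mul_smul, eh, eg, ← mul_smul g, cg, ← mul_smul h, ch, mul_smul, mul_smul, eg, eh,
      ← mul_smul, ← mul_smul, tr_mul, tr_mul, add_comm]
  have e2 : (g * h * g⁻¹ * h⁻¹) • (h * g) • x = (g * h) • x := by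
    rw [← mul_smul]; congr 1; group
  rw [← e] at e2
  have e3 : ((g * h)⁻¹ * (g * h * g⁻¹ * h⁻¹) * (g * h)) • x = x := by
    rw [mul_smul, mul_smul, e2, inv_smul_smul]
  have eb : (g * h) • x = tr hA v (b' + b) • x := by
    rw [mul_smul, eh, ← mul_smul g, cg, mul_smul, eg, ← mul_smul, tr_mul]
  have hz : (g * h * g⁻¹ * h⁻¹) * tr hA v (b' + b) = tr hA v (b' + b) * (g * h * g⁻¹ * h⁻¹) := by
    have hfix : ap (g * h * g⁻¹ * h⁻¹) v = v := by
      have hg' : ap g⁻¹ v = v := by conv_lhs => rw [← hg, ap_inv_apply]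
      have hh' : ap h⁻¹ v = v := by conv_lhs => rw [← hh, ap_inv_apply]
      rw [ap_mul, ap_mul, ap_mul, hh', hg', hh, hg]
    have := conj_tr hA (g * h * g⁻¹ * h⁻¹) v (b' + b)
    rw [show ((g * h * g⁻¹ * h⁻¹ : Sp B) : V ≃ₗ[F] V) v = v from hfix] at this
    conv_rhs => rw [← this]
    group
  rw [eb, ← mul_smul, hz, mul_smul, smul_left_cancel_iff] at e2
  exact e2

namespace Pair

variable (P : Pair B) [Finite F] [FiniteDimensional F V]

/-- A point of the orbit on which the stabiliser of the projection acts by transvections. -/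
theorem exists_fixed (hq : 3 ≤ Nat.card F) (ω : Ω)
    (horb : ∀ y, fixA hA P.v y = fixA hA P.v ω → P.W₀ hA y = P.W₀ hA ω →
      y ∈ MulAction.orbit (P.Q hA) ω)
    (heven : (2 : F) = 0 → fixA hA P.v ω = ⊥)
    (hsub : ∀ (α : F), ∀ w ∈ P.W₀ hA ω, α • w ∈ P.W₀ hA ω) :
    ∃ u ∈ P.Q hA, ∀ k : P.K hA, k • (P.W₀ hA ω : Set V) = P.W₀ hA ω →
      ∃ b, (k : Sp B) • u • ω = tr hA P.v b • u • ω := by
  obtain ⟨α, hα0, hα1, hαA⟩ : ∃ α : F, α ≠ 0 ∧ α ≠ 1 ∧
      (fun c => α ^ 2 * c) '' (fixA hA P.v ω : Set F) = fixA hA P.v ω := by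
    by_cases h2 : (2 : F) = 0
    · obtain ⟨α, h0, h1⟩ := exists_ne_zero_ne hq (1 : F)
      refine ⟨α, h0, h1, ?_⟩
      rw [heven h2]
      simp
    · refine ⟨-1, neg_ne_zero.2 one_ne_zero, fun e => h2 ?_, by simp⟩
      linear_combination -e
  obtain ⟨t, ht, htW, htP⟩ := P.exists_torus hA hα0
  have htA : fixA hA P.v (t • ω) = fixA hA P.v ω :=
    SetLike.coe_injective (by rw [ht.A_eq hA, hαA])
  have htW₀ : P.W₀ hA (t • ω) = P.W₀ hA ω := by
    refine SetLike.coe_injective ?_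
    rw [ht.W₀_eq hA]
    ext y
    constructor
    · rintro ⟨w, hw, rfl⟩
      show α • ap t w ∈ P.W₀ hA ω
      rw [htW w (P.W₀_le hA ω hw)]
      exact hsub α w hw
    · intro hy
      refine ⟨α⁻¹ • y, hsub _ y hy, ?_⟩
      show α • ap t (α⁻¹ • y) = y
      rw [htW _ (P.W.smul_mem _ (P.W₀_le hA ω hy)), smul_inv_smul₀ hα0]
  obtain ⟨⟨_, u₀, hu₀, a₀, rfl⟩, e₀⟩ := horb _ htA htW₀
  change P.El hA u₀ a₀ • ω = t • ω at e₀
  have h1α : (1 - α) ≠ 0 := sub_ne_zero.2 (Ne.symm hα1)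
  set u₁ := (1 - α)⁻¹ • u₀ with hu₁
  have hu₁W : u₁ ∈ P.W := P.W.smul_mem _ hu₀
  clear_value u₁
  set x := P.El hA u₁ 0 • ω with hx
  obtain ⟨r, hr⟩ : ∃ r, t • x = tr hA P.v r • x := by
    refine ⟨a₀, ?_⟩
    have hc := P.conj_El hA t ht.v (vw hu₁W) 0
    rw [htW _ hu₁W, mul_inv_eq_iff_eq_mul] at hc
    rw [hx, ← mul_smul, hc, mul_smul, ← e₀, ← mul_smul, ← mul_smul,
      P.El_mul hA (vw (P.W.smul_mem α hu₁W)) (vw hu₀), P.tr_mul_El hA (vw hu₁W)]
    congr 1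
    have e1 : α • u₁ + u₀ = u₁ := by
      conv_lhs => arg 2; rw [show u₀ = (1 - α) • u₁ from (by rw [hu₁, smul_inv_smul₀ h1α])]
      rw [← add_smul, add_sub_cancel, one_smul]
    rw [e1]
    congr 1
    rw [hu₁]
    simp [hA u₀]
  refine ⟨_, P.El_mem_Q hA hu₁W 0, fun k hk => ?_⟩
  rw [← hx]
  have hxA : fixA hA P.v x = fixA hA P.v ω := P.A_orbit hA (P.El_mem_Q hA hu₁W 0)
  have hxW : P.W₀ hA x = P.W₀ hA ω := P.W₀_orbit hA (P.El_mem_Q hA hu₁W 0)
  obtain ⟨z, hz⟩ : ∃ u : P.Q hA, (u : Sp B) • ω = (k : Sp B) • x :=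
    horb _ (by rw [K_A_eq hA k.2, hxA]) (SetLike.coe_injective (by
      rw [K_W₀_eq hA k.2, hxW, Subtype.coe_eta, hk]))
  obtain ⟨w, hw, b, hwb⟩ := (P.Q hA).mul_mem z.2 ((P.Q hA).inv_mem (P.El_mem_Q hA hu₁W 0))
  have e1 : (k : Sp B) • x = P.El hA w b • x := by
    rw [← hwb, ← hz, hx, ← mul_smul, inv_mul_cancel_right]
  have htk := torus_comm_K hA htW htP k.2
  have ev : ap (k : Sp B) P.v = P.v := K_fix hA k.2 P.v_mem
  have e2 : P.El hA (α • w) (α ^ 2 * b) • tr hA P.v r • x = tr hA P.v r • P.El hA w b • x := by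
    rw [← hr, ← mul_smul]
    have hc := P.conj_El hA t ht.v (vw hw) b
    rw [htW _ hw, mul_inv_eq_iff_eq_mul] at hc
    rw [← hc, mul_smul, ← e1, ← mul_smul, htk, mul_smul, hr, ← mul_smul, P.comm_tr_v hA ev,
      mul_smul]
  rw [← mul_smul, P.comm_tr_v hA (P.El_fix_v hA (vw (P.W.smul_mem α hw)) _), mul_smul,
    smul_left_cancel_iff] at e2
  have hmem : α • w - w ∈ P.W₀ hA x := by
    refine ⟨P.W.sub_mem (P.W.smul_mem α hw) hw, -b + α ^ 2 * b + B (α • w) (-w), ?_⟩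
    have h3 : (P.El hA w b)⁻¹ • P.El hA (α • w) (α ^ 2 * b) • x = x := by
      rw [e2, inv_smul_smul]
    rw [P.El_inv hA (vw hw), ← mul_smul, P.El_mul hA (by simp [vw hw]) (by simp [vw hw])] at h3
    rw [sub_eq_neg_add]
    exact h3
  have hw' : w ∈ P.W₀ hA x := by
    rw [hxW] at hmem ⊢
    have := hsub (α - 1)⁻¹ _ hmem
    rwa [show α • w - w = (α - 1) • w by module, inv_smul_smul₀ (sub_ne_zero.2 hα1)] at this
  obtain ⟨-, a, ea⟩ := hw'
  refine ⟨b - a, ?_⟩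
  rw [e1]
  conv_rhs => rw [← ea, ← mul_smul, P.tr_mul_El hA (vw hw), sub_add_cancel]

omit [Finite F] [FiniteDimensional F V] in
theorem mtr_mem_K {u z : V} (hu : u ∈ P.W) (hz : z ∈ P.W) (c : F) : mtr hA u z c ∈ P.K hA :=
  mul_mem (mul_mem (tr_mem_trGroup hA (P.W.add_mem hu hz) _) (tr_mem_trGroup hA hu _))
    (tr_mem_trGroup hA hz _)

variable (hB : B.Nondegenerate)
include hB

/-- A transvection of the complement is a commutator of elements scaling its centre. -/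
theorem tr_eq_commutator_scale (hq : 4 ≤ Nat.card F) {w : V} (hw : w ∈ P.W) (hw0 : w ≠ 0) (c : F) :
    ∃ g ∈ P.K hA, ∃ h ∈ P.K hA, (∃ β : F, ap g w = β • w) ∧ ap h w = w ∧
      tr hA w c = g * h * g⁻¹ * h⁻¹ := by
  obtain ⟨β, hβ0, hβ⟩ := exists_sq_ne_one hq
  obtain ⟨g, hg, hgw⟩ := transitive_ne_zero hA (nondeg_W hA hB (P := P)) hw (P.W.smul_mem β hw) hw0
    (smul_ne_zero hβ0 hw0)
  refine ⟨g, hg, tr hA w (c / (β ^ 2 - 1)), tr_mem_trGroup hA hw _, ⟨β, hgw⟩,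
    tr_fix hA _ (hA w), ?_⟩
  rw [conj_tr, hgw, tr_smul_vec, tr_inv, tr_mul]
  congr 1
  have : β ^ 2 - 1 ≠ 0 := sub_ne_zero.2 hβ
  field_simp
  ring

/-- A transvection of the complement is a commutator. -/
theorem tr_eq_commutator {d : ℕ} (hd : Module.finrank F V = d + 2)
    (hq : 4 ≤ Nat.card F ∨ (4 ≤ d ∧ (2 : F) ≠ 0)) {w : V} (hw : w ∈ P.W) (c : F) :
    ∃ g ∈ P.K hA, ∃ h ∈ P.K hA, tr hA w c = g * h * g⁻¹ * h⁻¹ := by
  by_cases hw0 : w = 0
  · exact ⟨1, one_mem _, 1, one_mem _, by rw [hw0, tr_zero_vec]; group⟩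
  rcases hq with hq | ⟨hd4, h2⟩
  · obtain ⟨g, hg, h, hh, -, -, e⟩ := P.tr_eq_commutator_scale hA hB hq hw hw0 c
    exact ⟨g, hg, h, hh, e⟩
  obtain ⟨z, hz, hzw⟩ := exists_perp_notMem (B := B.restrict P.W) (restrict_isAlt hA _)
    (restrict_nondegenerate hA (nondeg_W hA hB)) (Submodule.span F {(⟨w, hw⟩ : P.W)}) (by
      rw [finrank_span_singleton (fun e => hw0 (congrArg Subtype.val e)), finrank_W hA hB hd]
      omega)
  have hwz : B w z = 0 := hz _ (Submodule.mem_span_singleton_self _)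
  have hzw' : (z : V) ∉ Submodule.span F {w} := fun h => by
    obtain ⟨a, ha⟩ := Submodule.mem_span_singleton.1 h
    exact hzw (Submodule.mem_span_singleton.2 ⟨a, Subtype.ext ha⟩)
  obtain ⟨y, hy, hwy, hzy⟩ := exists_perp_in hA (nondeg_W hA hB (P := P)) hw z.2 hzw'
  set y' := (B (z : V) y)⁻¹ • y
  have hy' : y' ∈ P.W := P.W.smul_mem _ hy
  have hwy' : B w y' = 0 := by simp [y', hwy]
  have hzy' : B (z : V) y' = 1 := by simp [y', hzy]
  have hzw0 : B (z : V) w = 0 := by rw [swap hA w z, hwz, neg_zero]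
  refine ⟨mtr hA w y' 1, P.mtr_mem_K hA hw hy' 1, mtr hA w z (c / 2),
    P.mtr_mem_K hA hw z.2 _, ?_⟩
  have e1 : ap (mtr hA w y' 1) w = w := by
    rw [ap, mtr_apply hA hwy']; simp [hA w, hwy']
  have e2 : ap (mtr hA w y' 1) z = (z : V) + w := by
    rw [ap, mtr_apply hA hwy']; simp [hzw0, hzy']
  have e3 : ap (mtr hA w z (c / 2)) w = w := by
    rw [ap, mtr_apply hA hwz]; simp [hA w, hwz]
  rw [conj_mtr, show ((mtr hA w y' 1 : Sp B) : V ≃ₗ[F] V) w = w from e1,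
    show ((mtr hA w y' 1 : Sp B) : V ≃ₗ[F] V) z = (z : V) + w from e2,
    show (z : V) + w = (z : V) + (1 : F) • w by rw [one_smul], mtr_add_smul_self hA hwz, conj_tr,
    show ((mtr hA w z (c / 2) : Sp B) : V ≃ₗ[F] V) w = w from e3, one_mul,
    mul_div_cancel₀ _ h2]

/-- A hyperplane is not the projection of a stabiliser. -/
theorem hyper_false {d : ℕ} (hd : Module.finrank F V = d + 2) (hd4 : 4 ≤ d) (h2 : (2 : F) = 0)
    (hq : 3 ≤ Nat.card F) (ω : Ω)
    (horb : ∀ y, fixA hA P.v y = fixA hA P.v ω → P.W₀ hA y = P.W₀ hA ω →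
      y ∈ MulAction.orbit (P.Q hA) ω)
    (hbot : fixA hA P.v ω = ⊥) {u : V} (hu : u ∈ P.W) (hu0 : u ≠ 0)
    (hW₀ : (P.W₀ hA ω : Set V) = {y | y ∈ P.W ∧ B u y = 0}) : False := by
  obtain ⟨w, hwu, hw'⟩ := exists_perp_notMem (B := B.restrict P.W) (restrict_isAlt hA _)
    (restrict_nondegenerate hA (nondeg_W hA hB)) (Submodule.span F {(⟨u, hu⟩ : P.W)}) (by
      rw [finrank_span_singleton (fun e => hu0 (congrArg Subtype.val e)), finrank_W hA hB hd]
      omega)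
  have huw : B u w = 0 := hwu _ (Submodule.mem_span_singleton_self _)
  have hw'' : (w : V) ∉ Submodule.span F {u} := fun h => by
    obtain ⟨a, ha⟩ := Submodule.mem_span_singleton.1 h
    exact hw' (Submodule.mem_span_singleton.2 ⟨a, Subtype.ext ha⟩)
  obtain ⟨z, hz, huz, hwz⟩ := exists_perp_in hA (nondeg_W hA hB (P := P)) hu w.2 hw''
  have hneg : ∀ y : F, -y = y := fun y => by linear_combination (-y) * h2
  set z' := (B (w : V) z)⁻¹ • z
  have hz' : z' ∈ P.W := P.W.smul_mem _ hz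
  have hwz' : B (w : V) z' = 1 := by simp [z', hwz]
  have hzw' : B z' w = 1 := by rw [swap hA (w : V) z', hwz', hneg]
  have huz' : B u z' = 0 := by simp [z', huz]
  have hmem : ∀ y, y ∈ P.W → B u y = 0 → y ∈ P.W₀ hA ω := fun y h1 h1' => by
    rw [← SetLike.mem_coe, hW₀]; exact ⟨h1, h1'⟩
  have key : ∀ c μ : F, P.El hA ((c * μ) • (w : V)) (c * μ ^ 2) • ω = ω := by
    intro c μ
    let g : P.K hA := ⟨tr hA (w : V) c, tr_mem_trGroup hA w.2 c⟩
    have hstab : ∀ c : F, ∀ y ∈ P.W₀ hA ω, ap (tr hA (w : V) c) y ∈ P.W₀ hA ω := by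
      intro c y hy
      rw [← SetLike.mem_coe, hW₀] at hy ⊢
      obtain ⟨h1, h1'⟩ := hy
      rw [ap, tr_apply]
      exact ⟨P.W.add_mem h1 (P.W.smul_mem _ w.2), by simp [h1', huw]⟩
    have hg : g • (P.W₀ hA ω : Set V) = P.W₀ hA ω := by
      ext y
      constructor
      · rintro ⟨y', hy', rfl⟩
        exact hstab c y' hy'
      · intro hy
        refine ⟨_, hstab (-c) y hy, ?_⟩
        show ap (tr hA (w : V) c) (ap (tr hA (w : V) (-c)) y) = y
        rw [← ap_mul, tr_mul, add_neg_cancel, tr_zero, ap_one]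
    obtain ⟨⟨v', hv'⟩, e⟩ := horb ((g : Sp B) • ω) (by rw [K_A_eq hA g.2])
      (SetLike.coe_injective (by rw [K_W₀_eq hA g.2, Subtype.coe_eta, hg]))
    change v' • ω = (g : Sp B) • ω at e
    obtain ⟨hμ, a, ea⟩ : μ • z' ∈ P.W₀ hA ω :=
      hmem _ (P.W.smul_mem μ hz') (by simp [huz'])
    have eg := ((K_levi hA g.2).El_fix_iff hA hμ a ω).2 ea
    have egy : (1 : F) • ap (g : Sp B) (μ • z') = μ • z' + (c * μ) • (w : V) := by
      rw [one_smul]
      show ap (tr hA (w : V) c) _ = _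
      rw [ap, tr_apply, map_smul, LinearMap.smul_apply, hzw', smul_eq_mul, mul_one]
    rw [egy, one_pow, one_mul, ← e] at eg
    have hcw : (c * μ) • (w : V) ∈ P.W := P.W.smul_mem _ w.2
    obtain ⟨w₁, hw₁, a₁, rfl⟩ := hv'
    have hcomm : P.El hA (μ • z' + (c * μ) • (w : V)) a * P.El hA w₁ a₁ =
        P.El hA w₁ a₁ * P.El hA (μ • z' + (c * μ) • (w : V)) a := by
      rw [P.El_mul hA (vw (P.W.add_mem hμ hcw)) (vw hw₁),
        P.El_mul hA (vw hw₁) (vw (P.W.add_mem hμ hcw)), add_comm _ w₁,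
        swap hA (μ • z' + (c * μ) • (w : V)) w₁, hneg, add_comm a a₁]
    rw [← mul_smul, hcomm, mul_smul, smul_left_cancel_iff] at eg
    have e3 : P.El hA (μ • z') a • P.El hA (μ • z' + (c * μ) • (w : V)) a • ω = ω := by
      rw [eg, ea]
    rw [← mul_smul, P.El_mul hA (vw hμ) (vw (P.W.add_mem hμ hcw))] at e3
    have htwo : (2 : F) • (μ • z') = 0 := by rw [h2, zero_smul]
    rw [show μ • z' + (μ • z' + (c * μ) • (w : V)) = (c * μ) • (w : V) by
      rw [← add_assoc, ← two_smul F (μ • z'), htwo, zero_add]] at e3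
    rwa [show a + a + B (μ • z' + (c * μ) • (w : V)) (μ • z') = c * μ ^ 2 by
      simp [hA z', hwz']
      linear_combination a * h2] at e3
  obtain ⟨μ, hμ0, hμ1⟩ := exists_ne_zero_ne hq (1 : F)
  have k1 := key 1 1
  have k2 := key μ⁻¹ μ
  rw [one_mul, one_pow, mul_one, one_smul] at k1
  rw [inv_mul_cancel₀ hμ0, one_smul, show μ⁻¹ * μ ^ 2 = μ by field_simp] at k2
  have : μ - 1 ∈ fixA hA P.v ω := by
    rw [mem_fixA]
    conv_rhs => rw [← k2, show μ = (μ - 1) + 1 from (sub_add_cancel μ 1).symm,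
      ← P.tr_mul_El hA (vw w.2), mul_smul, k1]
  rw [hbot, AddSubgroup.mem_bot, sub_eq_zero] at this
  exact hμ1 this

end Pair

end CfsgLib.Classical.MinIndexPSp
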