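import Cfsg.Agent.Lib.Classical.MinIndexPSp.Cases
import Mathlib.LinearAlgebra.Projectivization.Cardinality

/-!
The vectors whose transvection groups lie in a proper subgroup of small index.
-/

set_option autoImplicit false

namespace CfsgLib.Classical.MinIndexPSp

open LinearMap (BilinForm)
open CfsgLib.Classical.Symp
open scoped Pointwise LinearAlgebra.Projectivization

variable {F : Type*} [Field F] {V : Type*} [AddCommGroup V] [Module F V] {B : BilinForm F V}

/-- The non-zero vectors with the whole transvection group in a subgroup. -/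
def InS (hA : B.IsAlt) (H : Subgroup (Sp B)) (s : V) : Prop :=
  s ≠ 0 ∧ ∀ c, tr hA s c ∈ H

variable {hA : B.IsAlt} {H : Subgroup (Sp B)}

theorem InS.smul {s : V} (hs : InS hA H s) {a : F} (ha : a ≠ 0) : InS hA H (a • s) :=
  ⟨smul_ne_zero ha hs.1, fun c => by rw [tr_smul_vec]; exact hs.2 _⟩

theorem InS.of_smul {s : V} {a : F} (hs : InS hA H (a • s)) : InS hA H s := by
  have ha : a ≠ 0 := fun e => hs.1 (by rw [e, zero_smul])
  have := hs.smul (inv_ne_zero ha)
  rwa [inv_smul_smul₀ ha] at this

theorem InS.map {s : V} (hs : InS hA H s) {g : Sp B} (hg : g ∈ H) : InS hA H (ap g s) :=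
  ⟨fun e => hs.1 ((ap g).injective (e.trans (map_zero _).symm)), fun c => by
    rw [← conj_tr hA g]
    exact H.mul_mem (H.mul_mem hg (hs.2 c)) (H.inv_mem hg)⟩

theorem InS.line {s t : V} (hs : InS hA H s) (ht : InS hA H t) (hst : B s t ≠ 0) (b : F) :
    InS hA H (s + b • t) := by
  have := hs.map (ht.2 (b / B s t))
  rwa [ap, tr_apply, div_mul_cancel₀ _ hst] at this

theorem two_coeff {v f z : V} (hv : ¬ InS hA H v) (hf : InS hA H f) {k₁ k₂ : F} (hk : k₁ ≠ k₂)
    (hvz : B v z = 0) (hfv : B f v ≠ 0) (h1 : InS hA H (z + k₁ • v)) (h2 : InS hA H (z + k₂ • v))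
    (h1' : B f (z + k₁ • v) ≠ 0) (h2' : B f (z + k₂ • v) ≠ 0) : False := by
  have l1 := hf.line h1 h1' 1
  have l2 := hf.line h2 h2' 1
  rw [one_smul] at l1 l2
  have hne : B (f + (z + k₁ • v)) (f + (z + k₂ • v)) ≠ 0 := by
    have e : B (f + (z + k₁ • v)) (f + (z + k₂ • v)) = (k₂ - k₁) * B f v := by
      simp only [map_add, map_smul, LinearMap.add_apply, LinearMap.smul_apply, smul_eq_mul, hA f,
        hA z, hA v, hvz, swap hA v z, swap hA f z, swap hA f v]
      ring
    rw [e]
    exact mul_ne_zero (sub_ne_zero.2 (Ne.symm hk)) hfv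
  have l3 := l1.line l2 hne (-1)
  rw [show f + (z + k₁ • v) + (-1 : F) • (f + (z + k₂ • v)) = (k₁ - k₂) • v by module] at l3
  exact hv l3.of_smul

/-- Two coefficients avoiding a bad value. -/
theorem exists_two [Finite F] (hq : 3 ≤ Nat.card F) (k₀ : F) :
    ∃ k₁ k₂ : F, k₁ ≠ k₂ ∧ k₁ ≠ k₀ ∧ k₂ ≠ k₀ := by
  obtain ⟨γ, h0, h1⟩ := exists_ne_zero_ne hq (1 : F)
  exact ⟨k₀ + 1, k₀ + γ, fun e => h1 (add_left_cancel e).symm, by simp, by simpa using h0⟩

variable [Finite F] [FiniteDimensional F V] (hB : B.Nondegenerate) {d : ℕ}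
  (hd : Module.finrank F V = d + 2) (hq : 3 ≤ Nat.card F) (hH : H ≠ ⊤)
  (hN : (H.index + 1) * (Nat.card F - 1) + 1 ≤ Nat.card F ^ (d + 2))

include hB in
omit [Finite F] in
theorem top_of_all (hall : ∀ x, x ≠ 0 → InS hA H x) : H = ⊤ := by
  rw [eq_top_iff, ← trGroup_eq_top hA hB, trGroup, Subgroup.closure_le]
  rintro _ ⟨u, -, c, rfl⟩
  by_cases hu : u = 0
  · rw [hu, tr_zero_vec]
    exact one_mem _
  · exact (hall u hu).2 c

include hA hB hd hN in
/-- The subgroup fixes no point. -/
theorem false_of_fix_line {p : V} (hp : p ≠ 0)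
    (hfix : ∀ g ∈ H, ∃ e : F, e • p = ap g p) : False := by
  have : Finite V := Module.finite_of_finite F
  have : Finite (V ≃ₗ[F] V) := Finite.of_injective _ DFunLike.coe_injective
  have := isPreprimitive hA hB
  have hle : H ≤ MulAction.stabilizer (Sp B) (Projectivization.mk F p hp) := fun g hg => by
    obtain ⟨e, he⟩ := hfix g hg
    rw [MulAction.mem_stabilizer_iff,
      mk_smul_eq hp (fun h0 => hp ((ap g).injective (h0.trans (map_zero _).symm))) rfl]
    exact (Projectivization.mk_eq_mk_iff' F _ _ _ _).2 ⟨e, he⟩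
  have h1 := Nat.le_of_dvd (Nat.pos_of_ne_zero Subgroup.index_ne_zero_of_finite)
    (Subgroup.index_dvd_of_le hle)
  rw [MulAction.index_stabilizer_of_transitive] at h1
  have h2 := Projectivization.card' F V
  rw [Module.natCard_eq_pow_finrank (K := F), hd] at h2
  have h3 := Nat.mul_le_mul_right (Nat.card F - 1) (Nat.succ_le_succ h1)
  have h4 : 1 < Nat.card F := Finite.one_lt_card
  rw [Nat.succ_eq_add_one, Nat.succ_eq_add_one, add_mul, one_mul] at h3
  omega

include hA hB hd hN in
/-- In dimension four the subgroup fixes no totally isotropic line. -/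
theorem false_of_fix_lagrangian (hd' : d = 2) (hq : 3 ≤ Nat.card F) {T : Submodule F V}
    (hT : Module.finrank F T = 2) (hiso : ∀ x ∈ T, ∀ y ∈ T, B x y = 0)
    (hfix : ∀ g ∈ H, ∀ x ∈ T, ap g x ∈ T) : False := by
  classical
  have : Finite V := Module.finite_of_finite F
  have : Finite (V ≃ₗ[F] V) := Finite.of_injective _ DFunLike.coe_injective
  set q := Nat.card F
  have hle : H ≤ MulAction.stabilizer (Sp B) (T : Set V) := fun g hg => by
    rw [MulAction.mem_stabilizer_iff]
    ext y
    constructor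
    · rintro ⟨x, hx, rfl⟩
      exact hfix g hg x hx
    · exact fun hy => ⟨ap g⁻¹ y, hfix _ (H.inv_mem hg) y hy, ap_apply_inv g y⟩
  have h1 := Nat.le_of_dvd (Nat.pos_of_ne_zero Subgroup.index_ne_zero_of_finite)
    (Subgroup.index_dvd_of_le hle)
  rw [MulAction.index_stabilizer] at h1
  have hTne : T ≠ ⊥ := fun e => by rw [e, finrank_bot] at hT; omega
  obtain ⟨w, hwT, hw0⟩ := Submodule.exists_mem_ne_zero_of_ne_bot hTne
  have hcT : (T : Set V).ncard = q ^ 2 := by
    rw [← Nat.card_coe_set_eq]
    show Nat.card ↥T = _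
    rw [Module.natCard_eq_pow_finrank (K := F), hT]
  have hcl : (Submodule.span F {w} : Set V).ncard = q := by
    rw [← Nat.card_coe_set_eq]
    show Nat.card ↥(Submodule.span F {w}) = _
    rw [Module.natCard_eq_pow_finrank (K := F), finrank_span_singleton hw0, pow_one]
  have horb : MulAction.orbit (Sp B) w = ({0} : Set V)ᶜ := by
    ext x
    constructor
    · rintro ⟨g, rfl⟩ e
      exact hw0 ((ap g).injective ((Set.mem_singleton_iff.1 e).trans (map_zero _).symm))
    · intro hx
      obtain ⟨g, -, hg⟩ := sp_transitive_ne_zero hA hB hw0 (fun e => hx e)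
      exact ⟨g, hg⟩
  set X : Set V := {z | B w z = 0} \ (Submodule.span F {w} : Set V)
  have hX : q ^ 3 - q ≤ X.ncard := by
    have hfib : {z : V | B w z = 0}.ncard = q ^ 3 := by
      rw [← Nat.card_coe_set_eq]
      refine (card_fibre_linear (B w) (fun e => hw0 (hB.1 w fun y => by rw [e]; rfl)) 0).trans ?_
      rw [hd, hd']
    rw [← hfib, ← hcl]
    exact Set.le_ncard_sdiff _ _ (Set.toFinite _)
  obtain ⟨w', hw'T, hw'⟩ : ∃ w' ∈ T, w' ∉ Submodule.span F {w} := by
    by_contra hc
    push Not at hc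
    have := Submodule.finrank_mono (show T ≤ Submodule.span F {w} from hc)
    rw [hT, finrank_span_singleton hw0] at this
    omega
  have key := pair_le (Γ := Sp B) (s := (T : Set V)) (w := w) X (r₀ := q ^ 2 - 1)
    (r₁ := q ^ 2 - q)
    (by
      rw [horb, ← Set.sdiff_eq, Set.ncard_sdiff_singleton_of_mem T.zero_mem, hcT])
    (fun x hx => by
      obtain ⟨g, g1, g2⟩ := exists_fix_map hA hB (hiso w hwT w' hw'T) hx.1 hw' hx.2
      exact ⟨g, ⟨w, hwT, g1⟩, ⟨w', hw'T, g2⟩⟩)
    (fun g hgw => by
      obtain ⟨w₀, hw₀, e⟩ := hgw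
      have hsub : (g • (T : Set V)) ∩ X ⊆
          (g • (T : Set V)) \ (Submodule.span F {w} : Set V) := fun y hy => ⟨hy.1, hy.2.2⟩
      refine le_trans (Set.ncard_le_ncard hsub (Set.toFinite _)) ?_
      rw [Set.ncard_sdiff ?_ (Set.toFinite _), hcl, ← Set.image_smul,
        Set.ncard_image_of_injective _ (MulAction.injective g), hcT]
      intro y hy
      obtain ⟨a, rfl⟩ := Submodule.mem_span_singleton.1 hy
      refine ⟨a • w₀, T.smul_mem a hw₀, ?_⟩
      show ap g (a • w₀) = a • w
      rw [map_smul]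
      exact congrArg (a • ·) e)
  rw [horb, Set.ncard_compl, Set.ncard_singleton, Module.natCard_eq_pow_finrank (K := F), hd,
    hd'] at key
  rw [hd'] at hN
  obtain ⟨e, he⟩ : ∃ e, q = e + 1 := ⟨q - 1, by omega⟩
  set L := (MulAction.orbit (Sp B) (T : Set V)).ncard
  have hL : L * ((q ^ 2 - 1) * (q ^ 2 - q)) ≤ H.index * ((q ^ 2 - 1) * (q ^ 2 - q)) :=
    Nat.mul_le_mul_right _ h1
  have h5 : (q ^ 3 - q) * (q ^ 4 - 1) ≤ H.index * ((q ^ 2 - 1) * (q ^ 2 - q)) := by
    refine (Nat.mul_le_mul_right _ hX).trans ?_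
    refine le_trans ?_ hL
    rw [← mul_assoc]
    exact key
  rw [he] at h5 hN
  rw [Nat.add_sub_cancel] at hN
  rw [show (e + 1) ^ 2 - 1 = e * (e + 2) from Nat.sub_eq_of_eq_add (by ring),
    show (e + 1) ^ 2 - (e + 1) = e * (e + 1) from Nat.sub_eq_of_eq_add (by ring),
    show (e + 1) ^ 3 - (e + 1) = e * (e + 1) * (e + 2) from Nat.sub_eq_of_eq_add (by ring),
    show H.index * (e * (e + 2) * (e * (e + 1))) = e * (e + 1) * (e + 2) * (H.index * e) by ring]
    at h5
  have he0 : 0 < e := by omega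
  have h6 := Nat.le_of_mul_le_mul_left h5 (by positivity)
  rw [add_mul, one_mul] at hN
  norm_num at hN
  omega

variable (hd2 : d = 2 ∨ (4 ≤ d ∧ Even d))

include hA hB hd hd2 hq hH hN in
/-- No vector has all of its hyperplane marked outside its line. -/
theorem false_of_radical {p : V} (hp : p ≠ 0)
    (hS : ∀ z, B p z = 0 → z ∉ Submodule.span F {p} → InS hA H z) : False := by
  classical
  have : Finite V := Module.finite_of_finite F
  obtain ⟨z₀, hz₀, hz₀p⟩ := exists_perp_notMem hA hB (Submodule.span F {p}) (by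
    rw [finrank_span_singleton hp, hd]
    rcases hd2 with h | ⟨h, -⟩ <;>
    omega)
  have hpz : B p z₀ = 0 := hz₀ p (Submodule.mem_span_singleton_self p)
  by_cases hout : ∃ y, InS hA H y ∧ B p y ≠ 0
  · obtain ⟨y, hy, hpy⟩ := hout
    have hyp : B y p ≠ 0 := by rwa [swap hA p y, neg_ne_zero]
    have hpS : InS hA H p := by
      by_contra hpS
      obtain ⟨k₁, k₂, hk, hk1, hk2⟩ := exists_two hq (-B y z₀ / B y p)
      have hmem : ∀ k : F, InS hA H (z₀ + k • p) := fun k =>
        hS _ (by simp [hpz, hA p]) fun hm => hz₀p (by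
          simpa using Submodule.sub_mem _ hm
            (Submodule.smul_mem _ k (Submodule.mem_span_singleton_self p)))
      have hne : ∀ k : F, k ≠ -B y z₀ / B y p → B y (z₀ + k • p) ≠ 0 := fun k hk h0 => by
        apply hk
        rw [map_add, map_smul, smul_eq_mul] at h0
        field_simp
        linear_combination h0
      exact two_coeff hpS hy hk hpz hyp (hmem _) (hmem _) (hne _ hk1) (hne _ hk2)
    have hperp : ∀ z, z ≠ 0 → B p z = 0 → InS hA H z := fun z hz hpz => by
      by_cases hm : z ∈ Submodule.span F {p}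
      · obtain ⟨a, rfl⟩ := Submodule.mem_span_singleton.1 hm
        exact hpS.smul fun e => hz (by rw [e, zero_smul])
      · exact hS z hpz hm
    refine hH (top_of_all (hA := hA) hB fun x hx => ?_)
    by_cases hpx : B p x = 0
    · exact hperp x hx hpx
    refine InS.of_smul (a := B p y / B p x) ?_
    set z := (B p y / B p x) • x - y with hz
    have e : (B p y / B p x) • x = y + z := by rw [hz]; module
    rw [e]
    have hpz' : B p z = 0 := by simp [hz, hpx]
    by_cases hz0 : z = 0
    · rw [hz0, add_zero]; exact hy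
    by_cases hyz : B y z = 0
    · have h1 := hy.line hpS hyp 1
      rw [one_smul] at h1
      have hne : B (y + p) (z - p) ≠ 0 := by
        simp [hyz, hpz', hA p, hyp]
      have := h1.line (hperp _ (fun e => hne (by rw [e, map_zero]))
        (by simp [hpz', hA p])) hne 1
      rwa [one_smul, show y + p + (z - p) = y + z by abel] at this
    · have := hy.line (hperp z hz0 hpz') hyz 1
      rwa [one_smul] at this
  · push Not at hout
    have hpres : ∀ g ∈ H, ∀ z, B p z = 0 → B p (ap g z) = 0 := by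
      intro g hg z hz
      have hout' : ∀ z, B p z = 0 → z ∉ Submodule.span F {p} → B p (ap g z) = 0 := fun z hz hm =>
        hout _ ((hS z hz hm).map hg)
      by_cases hm : z ∈ Submodule.span F {p}
      · have hnm : z + z₀ ∉ Submodule.span F {p} := fun h =>
          hz₀p (by simpa using Submodule.sub_mem _ h hm)
        have h1 := hout' _ (by simp [hz, hpz]) hnm
        rwa [map_add, map_add, hout' z₀ hpz hz₀p, add_zero] at h1
      · exact hout' z hz hm
    refine false_of_fix_line (hA := hA) hB hd hN hp fun g hg => ?_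
    by_contra hne
    push Not at hne
    have hm : ap g p ∉ Submodule.span F {p} := fun hm => by
      obtain ⟨a, ha⟩ := Submodule.mem_span_singleton.1 hm
      exact hne a ha
    obtain ⟨z, hz1, hz2⟩ := exists_perp_apply_ne_zero hA hB hm
    refine hz2 ?_
    rw [← ap_apply_inv g z, ap_eq]
    exact hpres _ (H.inv_mem hg) z hz1

end CfsgLib.Classical.MinIndexPSp
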