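import Cfsg.Agent.Lib.Classical.MinIndexPSp.Empty

/-!
The minimal index of a proper subgroup of a symplectic group of dimension at least four over a
field with at least three elements, apart from dimension four over three elements, is the number of
points.
-/

set_option autoImplicit false

namespace CfsgLib.Classical.MinIndexPSp

open LinearMap (BilinForm)
open CfsgLib.Classical.Symp
open scoped LinearAlgebra.Projectivization

variable {F : Type*} [Field F] {V : Type*} [AddCommGroup V] [Module F V] {B : BilinForm F V}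
  [Finite F] [FiniteDimensional F V] {hA : B.IsAlt} (hB : B.Nondegenerate) {d : ℕ}
  (hd : Module.finrank F V = d + 2) (hd2 : d = 2 ∨ (4 ≤ d ∧ Even d)) (hq : 3 ≤ Nat.card F)
  {H : Subgroup (Sp B)} (hH : H ≠ ⊤)
  (hN : (H.index + 1) * (Nat.card F - 1) + 1 ≤ Nat.card F ^ (d + 2))

include hB hd hN in
theorem false_of_line (hd' : d = 2) (hq : 3 ≤ Nat.card F) {v w f : V}
    (hv : ¬ InS hA H v) (hvw : B v w = 0) (hw : w ∉ Submodule.span F {v})
    (hwT : ∀ c, tr hA w c ∈ H) (hm : ∀ r : F, mtr hA v (r • w) 1 ∈ H)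
    (hf : InS hA H f) (hfv : B f v ≠ 0) : False := by
  have hw0 : w ≠ 0 := fun e => hw (by rw [e]; exact zero_mem _)
  have hwS : InS hA H w := ⟨hw0, hwT⟩
  have hwv : B w v = 0 := by rw [swap hA v w, hvw, neg_zero]
  have key : ∀ s, InS hA H s → B s w = 0 := by
    intro s hs
    by_contra hsw
    by_cases hsv : B s v = 0
    · have himg : ∀ k : F, InS hA H (s + k • v) := by
        intro k
        have h1 := hs.map (hm (k / B s w))
        rw [ap, mtr_apply hA (show B v ((k / B s w) • w) = 0 by simp [hvw])] at h1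
        rwa [hsv, mul_zero, zero_smul, add_zero, map_smul, one_mul, smul_eq_mul,
          div_mul_cancel₀ _ hsw] at h1
      obtain ⟨k₁, k₂, hk, hk1, hk2⟩ := exists_two hq (-B f s / B f v)
      have hne : ∀ k : F, k ≠ -B f s / B f v → B f (s + k • v) ≠ 0 := fun k hk h0 => by
        apply hk
        rw [map_add, map_smul, smul_eq_mul] at h0
        field_simp
        linear_combination h0
      exact two_coeff hv hf hk (by rw [swap hA s v, hsv, neg_zero]) hfv (himg _) (himg _)
        (hne _ hk1) (hne _ hk2)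
    · have h1 := hs.line hwS hsw (B s v)
      have h2 := hs.map (hm 1)
      rw [ap, mtr_apply hA (show B v ((1 : F) • w) = 0 by simp [hvw]), one_smul, one_mul,
        one_mul] at h2
      have hne : B (s + B s v • w + B s w • v) (s + B s v • w) ≠ 0 := by
        have e : B (s + B s v • w + B s w • v) (s + B s v • w) = -(B s w * B s v) := by
          simp [hA s, hA w, hvw, swap hA s w, swap hA s v]
        rw [e]
        exact neg_ne_zero.2 (mul_ne_zero hsw hsv)
      have h3 := h2.line h1 hne (-1)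
      rw [show s + B s v • w + B s w • v + (-1 : F) • (s + B s v • w) = B s w • v by module] at h3
      exact hv h3.of_smul
  set S : Submodule F V := Submodule.span F {s | InS hA H s} with hSdef
  set T : Submodule F V := S ⊓ B.orthogonal S with hTdef
  have hwmem : w ∈ T := by
    refine ⟨Submodule.subset_span hwS, mem_orthogonal.2 fun y hy => ?_⟩
    induction hy using Submodule.span_induction with
    | mem z hz => exact key z hz
    | zero => simp
    | add a b _ _ ha hb => simp [ha, hb]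
    | smul c a _ ha => simp [ha]
  have hSinv : ∀ g ∈ H, ∀ y ∈ S, ap g y ∈ S := by
    intro g hg y hy
    induction hy using Submodule.span_induction with
    | mem z hz => exact Submodule.subset_span (InS.map hz hg)
    | zero => simp
    | add a b _ _ ha hb => rw [map_add]; exact S.add_mem ha hb
    | smul c a _ ha => rw [map_smul]; exact S.smul_mem c ha
  have hTinv : ∀ g ∈ H, ∀ y ∈ T, ap g y ∈ T := by
    rintro g hg y ⟨hy1, hy2⟩
    refine ⟨hSinv g hg y hy1, mem_orthogonal.2 fun z hz => ?_⟩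
    rw [← ap_apply_inv g z, ap_eq]
    exact mem_orthogonal.1 hy2 _ (hSinv _ (H.inv_mem hg) z hz)
  have hiso : ∀ x ∈ T, ∀ y ∈ T, B x y = 0 := fun x hx y hy => mem_orthogonal.1 hy.2 x hx.1
  have hle : T ≤ B.orthogonal T := fun y hy => mem_orthogonal.2 fun x hx => hiso x hx y hy
  have hT2 := Submodule.finrank_mono hle
  rw [LinearMap.BilinForm.finrank_orthogonal hB, hd, hd'] at hT2
  have hT1 : 1 ≤ Module.finrank F T := by
    rw [Submodule.one_le_finrank_iff]
    exact fun e => hw0 (by rw [e, Submodule.mem_bot] at hwmem; exact hwmem)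
  have hsub : Submodule.span F {w} ≤ T := by
    rw [Submodule.span_le, Set.singleton_subset_iff]; exact hwmem
  rcases (show Module.finrank F T = 1 ∨ Module.finrank F T = 2 by omega) with h | h
  · have heq := Submodule.eq_of_le_of_finrank_eq hsub (by rw [finrank_span_singleton hw0, h])
    refine false_of_fix_line (hA := hA) hB hd hN hw0 fun g hg => ?_
    have := hTinv g hg w hwmem
    rw [← heq] at this
    exact Submodule.mem_span_singleton.1 this
  · exact false_of_fix_lagrangian (hA := hA) hB hd hN hd' hq h hiso hTinv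

include hq in
omit [FiniteDimensional F V] in
theorem false_of_whole {v f : V} (hv : ¬ InS hA H v) (hf : InS hA H f) (hvf : B v f = 1)
    [FiniteDimensional F V] (hB : B.Nondegenerate) {d : ℕ}
    (hd : Module.finrank F V = d + 2) (hd0 : 1 ≤ d)
    (hall : ∀ w, B v w = 0 → ∃ a, mtr hA v w 1 * tr hA v a ∈ H) : False := by
  classical
  let P : Pair B := ⟨v, f, hvf⟩
  have hfv : B f v = -1 := Pair.fv hA (P := P)
  have hW : ∀ w ∈ P.W, ∃ a, P.El hA w a ∈ H := fun w hw => hall w (Pair.vw hw)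
  by_cases hex : ∃ w ∈ P.W, ∃ a, a ≠ 0 ∧ P.El hA w a ∈ H
  · obtain ⟨w, hw, a, ha, hmem⟩ := hex
    have h1 := hf.map hmem
    rw [show ap (P.El hA w a) f = f - w - a • v from P.El_f hA hw a] at h1
    have hne : B f (f - w - a • v) ≠ 0 := by
      simp [hA f, show B f w = 0 from Pair.fw hw, hfv, ha]
    have h2 := hf.line h1 hne (-1)
    rw [show f + (-1 : F) • (f - w - a • v) = w + a • v by module] at h2
    by_cases hw0 : w = 0
    · rw [hw0, zero_add] at h2
      exact hv h2.of_smul
    obtain ⟨y, hy, hwy⟩ := exists_partner (Pair.nondeg_W hA hB (P := P)) hw hw0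
    have hall' : ∀ k : F, InS hA H (w + k • v) := by
      intro k
      obtain ⟨b, hb⟩ := hW _ (P.W.smul_mem (k - a) hy)
      have h3 := h2.map hb
      rw [P.El_apply hA (Pair.vw (P.W.smul_mem (k - a) hy))] at h3
      have e1 : B w v = 0 := Pair.wv hA hw
      have e2 : B v ((k - a) • y) = 0 := Pair.vw (P.W.smul_mem (k - a) hy)
      convert h3 using 1
      simp [P, e1, e2, hA v, hwy, show B v y = 0 from Pair.vw hy]
      module
    obtain ⟨k₁, k₂, hk, hk1, hk2⟩ := exists_two hq (0 : F)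
    exact two_coeff hv hf hk (Pair.vw hw) (by rw [hfv]; exact neg_ne_zero.2 one_ne_zero)
      (hall' k₁) (hall' k₂) (by simp [show B f w = 0 from Pair.fw hw, hfv, hk1])
      (by simp [show B f w = 0 from Pair.fw hw, hfv, hk2])
  · push Not at hex
    have h0 : ∀ w ∈ P.W, P.El hA w 0 ∈ H := fun w hw => by
      obtain ⟨a, ha⟩ := hW w hw
      by_cases ha0 : a = 0
      · rwa [ha0] at ha
      · exact absurd ha (hex w hw a ha0)
    have hne : P.W ≠ ⊥ := fun e => by
      have := Pair.finrank_W hA hB hd (P := P)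
      rw [e, finrank_bot] at this
      omega
    obtain ⟨w, hw, hw0⟩ := Submodule.exists_mem_ne_zero_of_ne_bot hne
    obtain ⟨y, hy, hwy⟩ := exists_partner (Pair.nondeg_W hA hB (P := P)) hw hw0
    have := H.mul_mem (h0 y hy) (h0 w hw)
    rw [P.El_mul hA (Pair.vw hy) (Pair.vw hw), hwy] at this
    exact hex _ (P.W.add_mem hy hw) _ (by simp) this

omit [Finite F] in
include hB in
theorem trGroup_le_of_tr {P : Pair B} (h : ∀ w ∈ P.W, ∀ c, tr hA w c ∈ H) {w u : V} (hw : w ∈ P.W)
    (hw0 : w ≠ 0) (hu : u ∈ P.W) (hu0 : u ≠ 0) :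
    ∃ g ∈ H, ap g w = u ∧ ∀ p ∈ P.plane, ap g p = p := by
  obtain ⟨g, hg, e⟩ := transitive_ne_zero hA (Pair.nondeg_W hA hB (P := P)) hw hu hw0 hu0
  refine ⟨g, ?_, e, fun p hp => Pair.K_fix hA hg hp⟩
  refine (Subgroup.closure_le H).2 ?_ hg
  rintro _ ⟨z, hz, c, rfl⟩
  exact h z hz c

include hB hd hd2 hq hH hN in
theorem false_of_mixed {P : Pair B} (hK : ∀ w ∈ P.W, ∀ c, tr hA w c ∈ H) {p w₀ : V}
    (hp : p ∈ P.plane) (hp0 : p ≠ 0) (hw₀ : w₀ ∈ P.W) (hw₀0 : w₀ ≠ 0)
    (hx : InS hA H (p + w₀)) : False := by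
  refine false_of_radical (hA := hA) hB hd hq hH hN hd2 hp0 fun z hpz hzp => ?_
  obtain ⟨u, hu, e⟩ := Pair.decomp hA (P := P) z
  obtain ⟨α, β, hαβ⟩ := Submodule.mem_span_pair.1 hp
  set γ := -B P.f z
  set δ := B P.v z
  have hpy : α * δ - β * γ = 0 := by
    rw [e, ← hαβ] at hpz
    simp [hA P.v, hA P.f, P.vf, Pair.fv hA, Pair.vw hu, Pair.fw hu] at hpz
    linear_combination hpz
  obtain ⟨k, hk⟩ : ∃ k : F, γ • P.v + δ • P.f = k • p := by
    by_cases hα : α = 0
    · have hβ : β ≠ 0 := fun e0 => hp0 (by rw [← hαβ, hα, e0, zero_smul, zero_smul, add_zero])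
      have hγ : γ = 0 := by
        rw [hα, zero_mul, zero_sub, neg_eq_zero] at hpy
        exact (mul_eq_zero.1 hpy).resolve_left hβ
      exact ⟨δ / β, by rw [← hαβ, hα, hγ]; simp [smul_smul, div_mul_cancel₀ _ hβ]⟩
    · refine ⟨γ / α, ?_⟩
      rw [← hαβ, smul_add, smul_smul, smul_smul, div_mul_cancel₀ _ hα]
      congr 2
      field_simp
      linear_combination hpy
  rw [hk] at e
  have hu0 : u ≠ 0 := fun h0 => hzp (by
    rw [e, h0, add_zero]; exact Submodule.smul_mem _ _ (Submodule.mem_span_singleton_self p))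
  rw [e]
  by_cases hk0 : k = 0
  · rw [hk0, zero_smul, zero_add]
    exact ⟨hu0, hK u hu⟩
  obtain ⟨g, hg, g1, g2⟩ := trGroup_le_of_tr hB hK hw₀ hw₀0 (P.W.smul_mem k⁻¹ hu)
    (smul_ne_zero (inv_ne_zero hk0) hu0)
  have := (hx.map hg).smul hk0
  rwa [map_add, g2 p hp, g1, smul_add, smul_inv_smul₀ hk0] at this

include hA hB hd hd2 hq hH hN in
/-- The contradiction. -/
theorem false_of_small (hq4 : d = 2 → 4 ≤ Nat.card F) : False := by
  classical
  have hnot : ∀ v, v ≠ 0 → ¬ InS hA H v → ∃ c, tr hA v c ∉ H := fun v hv h => by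
    by_contra hc
    push Not at hc
    exact h ⟨hv, hc⟩
  have hd0 : 1 ≤ d := by rcases hd2 with h | ⟨h, -⟩ <;> omega
  by_cases hne : ∃ s, InS hA H s
  · obtain ⟨s, hs⟩ := hne
    obtain ⟨v₀, hv₀, hv₀S⟩ : ∃ v, v ≠ 0 ∧ ¬ InS hA H v := by
      by_contra hc
      push Not at hc
      exact hH (top_of_all (hA := hA) hB hc)
    obtain ⟨v, hv, hvS, f, hf, hfv⟩ :
        ∃ v, v ≠ 0 ∧ ¬ InS hA H v ∧ ∃ f, InS hA H f ∧ B v f ≠ 0 := by
      by_contra hc
      push Not at hc
      have key : ∀ x, x ≠ 0 → ∃ a ∈ (⊤ : Submodule F V), B x a ≠ 0 := fun x hx => by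
        obtain ⟨a, ha, h⟩ := exists_partner (nondeg_top hB) (Submodule.mem_top (x := x)) hx
        exact ⟨a, ha, by rw [h]; exact one_ne_zero⟩
      obtain ⟨y, -, hy1, hy2⟩ := exists_apply_ne_zero_both (key v₀ hv₀) (key s hs.1)
      by_cases hyS : InS hA H y
      · exact hy1 (hc v₀ hv₀ hv₀S y hyS)
      · refine hy2 ?_
        rw [swap hA y s, hc y (fun e => hy1 (by rw [e, map_zero])) hyS s hs, neg_zero]
    have hf1 : InS hA H ((B v f)⁻¹ • f) := hf.smul (inv_ne_zero hfv)
    have hvf1 : B v ((B v f)⁻¹ • f) = 1 := by simp [hfv]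
    generalize (B v f)⁻¹ • f = f at hf1 hvf1
    have fixer : ∀ {v f : V}, v ≠ 0 → ¬ InS hA H v → InS hA H f → (hvf : B v f = 1) →
        ∃ f', B v f' = 1 ∧ ∀ w, B v w = 0 → B f' w = 0 → ∀ c, tr hA w c ∈ H := by
      intro v f hv hvS hf hvf
      rcases cases_at hA hB hd hd2 hq hq4 H hN ⟨v, f, hvf⟩ (hnot v hv hvS) with
        h | ⟨hd', w, h1, h2, h3, h4⟩ | ⟨-, h⟩
      · exact h
      · exact (false_of_line hB hd hN hd' hq hvS h1 h2 h3 h4 hf
          (by rw [swap hA v f, hvf]; exact neg_ne_zero.2 one_ne_zero)).elim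
      · exact (false_of_whole hq hvS hf hvf hB hd hd0 h).elim
    obtain ⟨f', hvf', hK'⟩ := fixer hv hvS hf1 hvf1
    let P : Pair B := ⟨v, f', hvf'⟩
    have hK : ∀ w ∈ P.W, ∀ c, tr hA w c ∈ H := fun w hw => hK' w (Pair.vw hw) (Pair.fw hw)
    obtain ⟨w₀, hw₀, e⟩ := Pair.decomp hA (P := P) f
    rw [show B P.v f = 1 from hvf1, one_smul] at e
    set α := -B P.f f
    have hpmem : α • P.v + P.f ∈ P.plane :=
      P.plane.add_mem (P.plane.smul_mem _ P.v_mem) P.f_mem
    have hp0 : α • P.v + P.f ≠ 0 := fun e0 => by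
      have := congrArg (B P.v) e0
      simp [hA P.v, P.vf] at this
    by_cases hw₀0 : w₀ = 0
    swap
    · exact false_of_mixed hB hd hd2 hq hH hN hK hpmem hp0 hw₀ hw₀0 (by rw [← e]; exact hf1)
    rw [hw₀0, add_zero] at e
    have hWne : P.W ≠ ⊥ := fun h => by
      have := Pair.finrank_W hA hB hd (P := P)
      rw [h, finrank_bot] at this
      omega
    obtain ⟨u₀, hu₀, hu₀0⟩ := Submodule.exists_mem_ne_zero_of_ne_bot hWne
    have hv1 : P.v + u₀ ≠ 0 := fun h0 => by
      have := congrArg (B P.f) h0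
      simp [Pair.fv hA, Pair.fw hu₀] at this
    by_cases hv1S : InS hA H (P.v + u₀)
    · exact false_of_mixed hB hd hd2 hq hH hN hK P.v_mem P.v_ne hu₀ hu₀0 hv1S
    have hv1f : B (P.v + u₀) f = 1 := by
      rw [e]
      simp [hA P.v, P.vf, Pair.wv hA hu₀, Pair.wf hA hu₀]
    obtain ⟨f₁, hf₁, hK₁⟩ := fixer hv1 hv1S hf1 hv1f
    let P₁ : Pair B := ⟨P.v + u₀, f₁, hf₁⟩
    have hsub : P₁.W ≤ P.W := by
      intro z hz
      by_cases hz0 : z = 0
      · rw [hz0]; exact zero_mem _
      have hzS : InS hA H z := ⟨hz0, hK₁ z (Pair.vw hz) (Pair.fw hz)⟩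
      obtain ⟨u, hu, ez⟩ := Pair.decomp hA (P := P) z
      have hp : -B P.f z • P.v + B P.v z • P.f ∈ P.plane :=
        P.plane.add_mem (P.plane.smul_mem _ P.v_mem) (P.plane.smul_mem _ P.f_mem)
      by_cases hpz : -B P.f z • P.v + B P.v z • P.f = 0
      · rw [ez, hpz, zero_add]; exact hu
      by_cases hu0 : u = 0
      · exfalso
        rw [hu0, add_zero] at ez
        have h1 : B (P.v + u₀) z = 0 := Pair.vw hz
        rw [ez] at h1
        simp [hA P.v, P.vf, Pair.wv hA hu₀, Pair.wf hA hu₀] at h1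
        rw [h1, zero_smul, add_zero] at ez
        rw [ez] at hzS
        exact hvS hzS.of_smul
      · rw [ez] at hzS
        exact (false_of_mixed hB hd hd2 hq hH hN hK hp hpz hu hu0 hzS).elim
    have heq := Submodule.eq_of_le_of_finrank_eq hsub
      ((Pair.finrank_W hA hB hd (P := P₁)).trans (Pair.finrank_W hA hB hd (P := P)).symm)
    obtain ⟨y, hy, huy⟩ := exists_partner (Pair.nondeg_W hA hB (P := P)) hu₀ hu₀0
    have h1 : B (P.v + u₀) y = 0 := Pair.vw (P := P₁) (by rw [heq]; exact hy)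
    rw [map_add, LinearMap.add_apply, Pair.vw hy, huy, zero_add] at h1
    exact one_ne_zero h1
  · push Not at hne
    have hall : ∀ v, v ≠ 0 → ((2 : F) = 0 ∧
        ∀ w, B v w = 0 → ∃ a, mtr hA v w 1 * tr hA v a ∈ H) := by
      intro v hv
      obtain ⟨f, -, hvf⟩ := exists_partner (nondeg_top hB) (Submodule.mem_top (x := v)) hv
      rcases cases_at hA hB hd hd2 hq hq4 H hN ⟨v, f, hvf⟩ (hnot v hv (hne v)) with
        ⟨f', hvf', hK⟩ | ⟨-, w, -, h2, h3, -⟩ | h
      · exfalso
        let P : Pair B := ⟨v, f', hvf'⟩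
        have hWne : P.W ≠ ⊥ := fun h => by
          have := Pair.finrank_W hA hB hd (P := P)
          rw [h, finrank_bot] at this
          omega
        obtain ⟨w, hw, hw0⟩ := Submodule.exists_mem_ne_zero_of_ne_bot hWne
        exact hne w ⟨hw0, hK w (Pair.vw (P := P) hw) (Pair.fw (P := P) hw)⟩
      · exact (hne w ⟨fun e => h2 (by rw [e]; exact zero_mem _), h3⟩).elim
      · exact h
    have : Nontrivial V := Module.nontrivial_of_finrank_pos (R := F) (by omega)
    obtain ⟨v, hv⟩ := exists_ne (0 : V)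
    refine false_of_all_whole hA hB hq (by rcases hd2 with h | ⟨h, -⟩ <;> omega) (hall v hv).1 H
      (fun v hv => hnot v hv (hne v)) fun v hv => (hall v hv).2

include hB hd hd2 hq hH in
/-- A proper subgroup has index at least the number of points. -/
theorem le_index (hA : B.IsAlt) (hq4 : d = 2 → 4 ≤ Nat.card F) :
    (Nat.card F ^ (d + 2) - 1) / (Nat.card F - 1) ≤ H.index := by
  by_contra hlt
  push Not at hlt
  refine false_of_small (hA := hA) hB hd hd2 hq hH ?_ hq4
  have h1 := Nat.mul_le_mul_right (Nat.card F - 1) (Nat.succ_le_of_lt hlt)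
  have h2 := Nat.div_mul_le_self (Nat.card F ^ (d + 2) - 1) (Nat.card F - 1)
  have h3 : 1 ≤ Nat.card F ^ (d + 2) := Nat.one_le_pow _ _ Nat.card_pos
  rw [Nat.succ_eq_add_one] at h1
  omega

include hB in
/-- The stabiliser of a point. -/
theorem exists_index (hA : B.IsAlt) {n : ℕ} (hn : Module.finrank F V = n + 1) :
    ∃ H : Subgroup (Sp B), Subgroup.center (Sp B) ≤ H ∧
      H.index = (Nat.card F ^ (n + 1) - 1) / (Nat.card F - 1) := by
  have : Finite V := Module.finite_of_finite F
  have := isPreprimitive hA hB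
  have : Nontrivial V := Module.nontrivial_of_finrank_pos (R := F) (by omega)
  obtain ⟨v, hv⟩ := exists_ne (0 : V)
  refine ⟨MulAction.stabilizer (Sp B) (Projectivization.mk F v hv), fun z hz => ?_, ?_⟩
  · obtain ⟨a, ha⟩ := (mem_center_iff_smul hA hB).1 hz
    have hav : a • v ≠ 0 := by
      rw [← ha v]
      simpa using hv
    rw [MulAction.mem_stabilizer_iff, mk_smul_eq hv hav (ha v)]
    exact (Projectivization.mk_eq_mk_iff' F _ _ _ _).2 ⟨a, rfl⟩
  · rw [MulAction.index_stabilizer_of_transitive, Projectivization.card'',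
      Module.natCard_eq_pow_finrank (K := F), hn]

end CfsgLib.Classical.MinIndexPSp
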