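import Cfsg.Agent.Lib.Classical.Symplectic.Structure

/-!
Hyperbolic pairs of a symplectic space: the unipotent radical of the stabiliser of the first
vector, the torus and the symplectic group of the complement.
-/

set_option autoImplicit false

namespace CfsgLib.Classical.MinIndexPSp

open LinearMap (BilinForm)
open CfsgLib.Classical.Symp

variable {F : Type*} [Field F] {V : Type*} [AddCommGroup V] [Module F V] {B : BilinForm F V}

/-- An isometry as a linear equivalence. -/
abbrev ap (g : Sp B) : V ≃ₗ[F] V := (g : V ≃ₗ[F] V)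

theorem ap_mul (g k : Sp B) (y : V) : ap (g * k) y = ap g (ap k y) := rfl

theorem ap_one (y : V) : ap (1 : Sp B) y = y := rfl

theorem ap_inv_apply (g : Sp B) (y : V) : ap g⁻¹ (ap g y) = y := by
  rw [← ap_mul, inv_mul_cancel, ap_one]

theorem ap_apply_inv (g : Sp B) (y : V) : ap g (ap g⁻¹ y) = y := by
  rw [← ap_mul, mul_inv_cancel, ap_one]

theorem ap_eq (g : Sp B) (u w : V) : B (ap g u) (ap g w) = B u w := g.2 u w

theorem smul_eq_ap (g : Sp B) (y : V) : g • y = ap g y := rfl

theorem mtr_smul_left (hA : B.IsAlt) {u w : V} (h : B u w = 0) (α c : F) :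
    mtr hA (α • u) w c = mtr hA u (α • w) c := by
  ext x
  rw [mtr_apply hA (show B (α • u) w = 0 by simp [h]),
    mtr_apply hA (show B u (α • w) = 0 by simp [h])]
  simp only [map_smul, smul_eq_mul, smul_smul]
  module

theorem mtr_add_smul_self (hA : B.IsAlt) {u w : V} (h : B u w = 0) (k c : F) :
    mtr hA u (w + k • u) c = mtr hA u w c * tr hA u (2 * (k * c)) := by
  ext x
  rw [mtr_apply hA (show B u (w + k • u) = 0 by simp [h, hA u]), Subgroup.coe_mul,
    LinearEquiv.mul_apply, mtr_apply hA h, tr_apply]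
  simp only [map_add, map_smul, LinearMap.add_apply, LinearMap.smul_apply, smul_eq_mul, hA u, h,
    mul_zero, add_zero]
  module

theorem tr_zero_vec (hA : B.IsAlt) (c : F) : tr hA (0 : V) c = 1 := by
  ext x
  simp [tr_apply]

/-- A pair of vectors of form value one. -/
structure Pair (B : BilinForm F V) where
  /-- The centre. -/
  v : V
  /-- The partner. -/
  f : V
  vf : B v f = 1

namespace Pair

variable (P : Pair B)

/-- The plane of the pair. -/
abbrev plane : Submodule F V := Submodule.span F ({P.v, P.f} : Set V)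

/-- The complement of the pair. -/
abbrev W : Submodule F V := B.orthogonal P.plane

theorem v_mem : P.v ∈ P.plane := Submodule.subset_span (by simp)

theorem f_mem : P.f ∈ P.plane := Submodule.subset_span (by simp)

theorem v_ne : P.v ≠ 0 := ne_zero_of_apply_ne_zero (B := B) (v := P.f) (by simp [P.vf])

theorem mem_W {y : V} : y ∈ P.W ↔ B P.v y = 0 ∧ B P.f y = 0 := by
  rw [W, mem_orthogonal]
  refine ⟨fun h => ⟨h _ P.v_mem, h _ P.f_mem⟩, fun h p hp => ?_⟩
  obtain ⟨a, b, rfl⟩ := Submodule.mem_span_pair.1 hp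
  simp [h.1, h.2]

variable {P}

theorem vw {w : V} (hw : w ∈ P.W) : B P.v w = 0 := (P.mem_W.1 hw).1

theorem fw {w : V} (hw : w ∈ P.W) : B P.f w = 0 := (P.mem_W.1 hw).2

variable (hA : B.IsAlt)
include hA

theorem wv {w : V} (hw : w ∈ P.W) : B w P.v = 0 := by rw [swap hA P.v w, vw hw, neg_zero]

theorem wf {w : V} (hw : w ∈ P.W) : B w P.f = 0 := by rw [swap hA P.f w, fw hw, neg_zero]

theorem fv : B P.f P.v = -1 := by rw [swap hA P.v P.f, P.vf]

theorem decomp (y : V) : ∃ w ∈ P.W, y = -B P.f y • P.v + B P.v y • P.f + w := by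
  refine ⟨y + B P.f y • P.v - B P.v y • P.f, P.mem_W.2 ⟨?_, ?_⟩, by module⟩
  · simp [hA P.v, P.vf]
  · simp [hA P.f, fv hA]

theorem decomp_unique {a b a' b' : F} {w w' : V} (hw : w ∈ P.W) (hw' : w' ∈ P.W)
    (e : a • P.v + b • P.f + w = a' • P.v + b' • P.f + w') : a = a' ∧ b = b' ∧ w = w' := by
  have e1 := congrArg (B P.v) e
  have e2 := congrArg (B P.f) e
  simp [hA P.v, P.vf, vw hw, vw hw'] at e1
  simp [hA P.f, fv hA, fw hw, fw hw'] at e2
  subst e1 e2
  exact ⟨rfl, rfl, add_left_cancel e⟩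

theorem nondeg_W [FiniteDimensional F V] (hB : B.Nondegenerate) :
    ∀ x ∈ P.W, (∀ y ∈ P.W, B x y = 0) → x = 0 :=
  (nondeg_orthogonal hA hB (nondeg_pair hA P.vf)).2

theorem finrank_W [FiniteDimensional F V] (hB : B.Nondegenerate) {d : ℕ}
    (hd : Module.finrank F V = d + 2) : Module.finrank F P.W = d := by
  have hc := (nondeg_orthogonal hA hB (nondeg_pair hA P.vf)).1
  have hr := Submodule.finrank_add_eq_of_isCompl hc
  have h2 := finrank_span_eq_card (linearIndependent_pair_of_one hA P.vf)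
  rw [Matrix.range_cons_cons_empty, Fintype.card_fin] at h2
  rw [h2] at hr
  show Module.finrank F (B.orthogonal (Submodule.span F ({P.v, P.f} : Set V))) = d
  omega

/-! ### The unipotent radical -/

variable (P)

/-- An element of the unipotent radical. -/
def El (w : V) (a : F) : Sp B := mtr hA P.v w 1 * tr hA P.v a

theorem El_apply {w : V} (hw : B P.v w = 0) (a : F) (y : V) :
    ap (P.El hA w a) y = y + B y P.v • w + (B y w + a * B y P.v) • P.v := by
  rw [El, ap_mul, ap, ap, tr_apply, mtr_apply hA hw]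
  simp only [map_add, map_smul, LinearMap.add_apply, LinearMap.smul_apply, smul_eq_mul, hA P.v, hw,
    mul_zero, add_zero]
  module

theorem El_fix_v {w : V} (hw : B P.v w = 0) (a : F) : ap (P.El hA w a) P.v = P.v := by
  rw [P.El_apply hA hw, hA P.v, hw]
  simp

theorem El_f {w : V} (hw : w ∈ P.W) (a : F) :
    ap (P.El hA w a) P.f = P.f - w - a • P.v := by
  rw [P.El_apply hA (vw hw), fv hA, fw hw]
  module

theorem El_zero (a : F) : P.El hA 0 a = tr hA P.v a := by
  ext y
  show ap (P.El hA 0 a) y = _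
  rw [P.El_apply hA (by simp), tr_apply]
  simp

theorem El_one : P.El hA 0 0 = 1 := by rw [El_zero, tr_zero]

theorem El_mul {w w' : V} (hw : B P.v w = 0) (hw' : B P.v w' = 0) (a a' : F) :
    P.El hA w a * P.El hA w' a' = P.El hA (w + w') (a + a' + B w' w) := by
  ext y
  show ap (P.El hA w a) (ap (P.El hA w' a') y) = ap _ y
  rw [P.El_apply hA hw', P.El_apply hA hw, P.El_apply hA (by simp [hw, hw'])]
  have hw'' : B w' P.v = 0 := by rw [swap hA P.v w', hw', neg_zero]
  simp only [map_add, map_smul, LinearMap.add_apply, LinearMap.smul_apply, smul_eq_mul, hA P.v,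
    hw, hw'', mul_zero, add_zero]
  module

theorem El_inv {w : V} (hw : B P.v w = 0) (a : F) :
    (P.El hA w a)⁻¹ = P.El hA (-w) (-a) := by
  refine inv_eq_of_mul_eq_one_right ?_
  rw [P.El_mul hA hw (by simp [hw]), ← P.El_one hA]
  congr 1 <;> simp [hA w]

theorem El_inj {w w' : V} (hw : w ∈ P.W) (hw' : w' ∈ P.W) {a a' : F}
    (e : P.El hA w a = P.El hA w' a') : w = w' ∧ a = a' := by
  have e1 : ap (P.El hA w a) P.f = ap (P.El hA w' a') P.f := by rw [e]
  rw [P.El_f hA hw, P.El_f hA hw'] at e1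
  have := decomp_unique hA (P := P) (a := -a) (b := 1) (a' := -a') (b' := 1)
    (Submodule.neg_mem _ hw) (Submodule.neg_mem _ hw') (by linear_combination (norm := module) e1)
  exact ⟨neg_inj.1 this.2.2, neg_inj.1 this.1⟩

theorem tr_mul_El {w : V} (hw : B P.v w = 0) (c a : F) :
    tr hA P.v c * P.El hA w a = P.El hA w (c + a) := by
  rw [← El_zero, P.El_mul hA (by simp) hw]
  congr 1 <;> simp

/-- The effect of an isometry moving the centre to a multiple of itself. -/
theorem conj_El (g : Sp B) {α : F} (hg : ap g P.v = α • P.v) {w : V} (hw : B P.v w = 0) (a : F) :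
    g * P.El hA w a * g⁻¹ = P.El hA (α • ap g w) (α ^ 2 * a) := by
  have hgw : B (ap g P.v) (ap g w) = 0 := by rw [ap_eq, hw]
  have hgw' : α * B P.v (ap g w) = 0 := by
    rw [hg] at hgw
    simpa using hgw
  have h0 : α ≠ 0 := fun e => P.v_ne ((ap g).injective (by rw [hg, e, zero_smul, map_zero]))
  have hvw : B P.v (ap g w) = 0 := (mul_eq_zero.1 hgw').resolve_left h0
  rw [El, El, ← mtr_smul_left hA hvw, ← tr_smul_vec, ← hg, ← conj_mtr hA g, ← conj_tr hA g]
  group

theorem conj_tr_v (g : Sp B) {α : F} (hg : ap g P.v = α • P.v) (c : F) :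
    g * tr hA P.v c = tr hA P.v (α ^ 2 * c) * g := by
  rw [← tr_smul_vec, ← hg, ← conj_tr hA g]
  group

theorem comm_tr_v {g : Sp B} (hg : ap g P.v = P.v) (c : F) :
    g * tr hA P.v c = tr hA P.v c * g := by
  rw [P.conj_tr_v hA g (α := 1) (by rw [hg, one_smul]), one_pow, one_mul]

/-- The unipotent radical. -/
def Q : Subgroup (Sp B) where
  carrier := {g | ∃ w ∈ P.W, ∃ a, g = P.El hA w a}
  mul_mem' := by
    rintro _ _ ⟨w, hw, a, rfl⟩ ⟨w', hw', a', rfl⟩
    exact ⟨_, P.W.add_mem hw hw', _, P.El_mul hA (vw hw) (vw hw') a a'⟩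
  one_mem' := ⟨0, P.W.zero_mem, 0, (P.El_one hA).symm⟩
  inv_mem' := by
    rintro _ ⟨w, hw, a, rfl⟩
    exact ⟨_, P.W.neg_mem hw, _, P.El_inv hA (vw hw) a⟩

theorem El_mem_Q {w : V} (hw : w ∈ P.W) (a : F) : P.El hA w a ∈ P.Q hA := ⟨w, hw, a, rfl⟩

theorem Q_fix_v {u : Sp B} (hu : u ∈ P.Q hA) : ap u P.v = P.v := by
  obtain ⟨w, hw, a, rfl⟩ := hu
  exact P.El_fix_v hA (vw hw) a

theorem card_Q [Finite F] [FiniteDimensional F V] (hB : B.Nondegenerate) {d : ℕ}
    (hd : Module.finrank F V = d + 2) : Nat.card (P.Q hA) = Nat.card F ^ (d + 1) := by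
  let e : P.W × F → P.Q hA := fun p => ⟨P.El hA p.1 p.2, P.El_mem_Q hA p.1.2 p.2⟩
  have he : Function.Bijective e := by
    refine ⟨fun p r h => ?_, fun ⟨g, w, hw, a, e'⟩ => ⟨(⟨w, hw⟩, a), Subtype.ext e'.symm⟩⟩
    obtain ⟨h1, h2⟩ := P.El_inj hA p.1.2 r.1.2 (congrArg Subtype.val h)
    exact Prod.ext (Subtype.ext h1) h2
  rw [← Nat.card_congr (Equiv.ofBijective e he), Nat.card_prod,
    Module.natCard_eq_pow_finrank (K := F), finrank_W hA hB hd, pow_succ]

/-! ### The torus and the group of the complement -/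

/-- Elements scaling the centre and keeping the complement. -/
structure Levi (g : Sp B) (α : F) : Prop where
  v : ap g P.v = α • P.v
  W : ∀ w, w ∈ P.W ↔ ap g w ∈ P.W

theorem exists_torus {α : F} (hα : α ≠ 0) :
    ∃ t : Sp B, P.Levi t α ∧ (∀ w ∈ P.W, ap t w = w) ∧ ∀ p ∈ P.plane, ap t p ∈ P.plane := by
  have hαv : B (α • P.v) (α⁻¹ • P.f) = 1 := by simp [P.vf, hα]
  obtain ⟨t, ht, h1, h2⟩ := transitive_hyperbolic hA (nondeg_pair hA P.vf) P.v_mem P.f_mem
    (P.plane.smul_mem α P.v_mem) (P.plane.smul_mem α⁻¹ P.f_mem) P.vf hαv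
  have hfix : ∀ w ∈ P.W, ap t w = w := fun w hw => trGroup_fix hA ht fun z hz => by
    rw [swap hA z w, mem_orthogonal.1 hw z hz, neg_zero]
  refine ⟨t, ⟨h1, fun w => ⟨fun hw => by rw [hfix w hw]; exact hw, fun hw => ?_⟩⟩, hfix, ?_⟩
  · have := (ap t).injective (hfix _ hw)
    rwa [this] at hw
  · exact fun p hp => trGroup_apply_mem hA ht hp

/-- The group of the complement. -/
abbrev K : Subgroup (Sp B) := trGroup hA P.W

variable {P}

theorem K_fix {k : Sp B} (hk : k ∈ P.K hA) {p : V} (hp : p ∈ P.plane) : ap k p = p :=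
  trGroup_fix hA hk fun _ hw => mem_orthogonal.1 hw p hp

theorem K_levi {k : Sp B} (hk : k ∈ P.K hA) : P.Levi k 1 := by
  refine ⟨by rw [K_fix hA hk P.v_mem, one_smul], fun w => ⟨fun hw => trGroup_apply_mem hA hk hw,
    fun hw => ?_⟩⟩
  have := trGroup_apply_mem hA ((P.K hA).inv_mem hk) hw
  rwa [show ap k⁻¹ (ap k w) = w from ap_inv_apply k w] at this

theorem torus_comm_K {t k : Sp B} (htW : ∀ w ∈ P.W, ap t w = w)
    (htP : ∀ p ∈ P.plane, ap t p ∈ P.plane) (hk : k ∈ P.K hA) : t * k = k * t := by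
  refine Subtype.ext (LinearEquiv.ext fun y => ?_)
  show ap t (ap k y) = ap k (ap t y)
  obtain ⟨w, hw, e⟩ := decomp hA (P := P) y
  have hp : -B P.f y • P.v + B P.v y • P.f ∈ P.plane :=
    P.plane.add_mem (P.plane.smul_mem _ P.v_mem) (P.plane.smul_mem _ P.f_mem)
  generalize -B P.f y • P.v + B P.v y • P.f = p at e hp
  rw [e, map_add, map_add, map_add, map_add, K_fix hA hk hp, K_fix hA hk (htP _ hp), htW w hw,
    htW _ (trGroup_apply_mem hA hk hw)]

end Pair

end CfsgLib.Classical.MinIndexPSp
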