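import Cfsg.Agent.Lib.Classical.MinIndexPSp.Pair
import Cfsg.Agent.Lib.Classical.MinIndexPSp.Classes
import Cfsg.Agent.Lib.Classical.MinIndexPSp.Count
import Mathlib.GroupTheory.GroupAction.Quotient

/-!
How the unipotent radical at a vector acts on a finite set with an action of the symplectic group.
-/

set_option autoImplicit false

namespace CfsgLib.Classical.MinIndexPSp

open LinearMap (BilinForm)
open CfsgLib.Classical.Symp
open scoped Pointwise

variable {F : Type*} [Field F] {V : Type*} [AddCommGroup V] [Module F V] {B : BilinForm F V}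
  (hA : B.IsAlt) {Ω : Type*} [MulAction (Sp B) Ω]

/-- The scalars whose transvection at a vector fixes a point. -/
def fixA (v : V) (ω : Ω) : AddSubgroup F where
  carrier := {c | tr hA v c • ω = ω}
  add_mem' := fun {a b} (ha : tr hA v a • ω = ω) (hb : tr hA v b • ω = ω) => by
    show tr hA v (a + b) • ω = ω
    rw [← tr_mul, mul_smul, hb, ha]
  zero_mem' := by show tr hA v 0 • ω = ω; rw [tr_zero, one_smul]
  neg_mem' := fun {a} (ha : tr hA v a • ω = ω) => by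
    show tr hA v (-a) • ω = ω
    rw [← tr_inv, inv_smul_eq_iff, ha]

theorem mem_fixA {v : V} {ω : Ω} {c : F} : c ∈ fixA hA v ω ↔ tr hA v c • ω = ω := Iff.rfl

namespace Pair

variable (P : Pair B)

/-- The projection of the stabiliser in the radical to the complement. -/
def W₀ (ω : Ω) : AddSubgroup V where
  carrier := {w | w ∈ P.W ∧ ∃ a, P.El hA w a • ω = ω}
  add_mem' := by
    rintro w w' ⟨hw, a, e⟩ ⟨hw', a', e'⟩
    exact ⟨P.W.add_mem hw hw', _,
      by rw [← P.El_mul hA (vw hw) (vw hw') a a', mul_smul, e', e]⟩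
  zero_mem' := ⟨P.W.zero_mem, 0, by rw [El_one, one_smul]⟩
  neg_mem' := by
    rintro w ⟨hw, a, e⟩
    exact ⟨P.W.neg_mem hw, -a, by rw [← P.El_inv hA (vw hw), inv_smul_eq_iff, e]⟩

theorem mem_W₀ {ω : Ω} {w : V} :
    w ∈ P.W₀ hA ω ↔ w ∈ P.W ∧ ∃ a, P.El hA w a • ω = ω := Iff.rfl

theorem W₀_le (ω : Ω) : (P.W₀ hA ω : Set V) ⊆ P.W := fun _ h => h.1

theorem A_orbit {ω : Ω} {u : Sp B} (hu : u ∈ P.Q hA) :
    fixA hA P.v (u • ω) = fixA hA P.v ω := by
  ext c
  rw [mem_fixA, mem_fixA, ← mul_smul, ← P.comm_tr_v hA (P.Q_fix_v hA hu), mul_smul,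
    smul_left_cancel_iff]

theorem W₀_le_orbit {ω : Ω} {u : Sp B} (hu : u ∈ P.Q hA) {w : V} (hw : w ∈ P.W₀ hA ω) :
    w ∈ P.W₀ hA (u • ω) := by
  obtain ⟨hwW, a, e⟩ := hw
  obtain ⟨w₁, hw₁, a₁, rfl⟩ := hu
  refine ⟨hwW, a + (B w w₁ - B w₁ w), ?_⟩
  rw [← mul_smul]
  conv_rhs => rw [← e, ← mul_smul]
  congr 1
  rw [P.El_mul hA (vw hwW) (vw hw₁), P.El_mul hA (vw hw₁) (vw hwW), add_comm w]
  congr 1
  ring

theorem W₀_orbit {ω : Ω} {u : Sp B} (hu : u ∈ P.Q hA) : P.W₀ hA (u • ω) = P.W₀ hA ω := by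
  refine le_antisymm (fun w hw => ?_) fun w hw => P.W₀_le_orbit hA hu hw
  have := P.W₀_le_orbit hA ((P.Q hA).inv_mem hu) hw
  rwa [inv_smul_smul] at this

theorem commutator_mem {ω : Ω} {w w' : V} (hw : w ∈ P.W₀ hA ω) (hw' : w' ∈ P.W₀ hA ω) :
    2 * B w' w ∈ fixA hA P.v ω := by
  obtain ⟨hwW, a, e⟩ := hw
  obtain ⟨hwW', a', e'⟩ := hw'
  rw [mem_fixA]
  have key : P.El hA w a * P.El hA w' a' =
      tr hA P.v (2 * B w' w) * (P.El hA w' a' * P.El hA w a) := by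
    rw [P.El_mul hA (vw hwW) (vw hwW'), P.El_mul hA (vw hwW') (vw hwW),
      P.tr_mul_El hA (by simp [vw hwW, vw hwW']), add_comm w', swap hA w' w]
    congr 1
    ring
  have := congrArg (· • ω) key
  simpa only [mul_smul, e, e'] using this.symm

variable {P}

theorem Levi.ne_zero {g : Sp B} {α : F} (hg : P.Levi g α) : α ≠ 0 := fun e =>
  P.v_ne ((ap g).injective (by rw [hg.v, e, zero_smul, map_zero]))

theorem Levi.map_mem {g : Sp B} {α : F} (hg : P.Levi g α) {w : V} (hw : w ∈ P.W) :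
    α • ap g w ∈ P.W := P.W.smul_mem α ((hg.W w).1 hw)

theorem Levi.comp {g k : Sp B} {α β : F} (hg : P.Levi g α) (hk : P.Levi k β) :
    P.Levi (g * k) (α * β) :=
  ⟨by rw [ap_mul, hk.v, map_smul, hg.v, smul_smul, mul_comm β],
    fun w => by rw [ap_mul]; exact (hk.W w).trans (hg.W _)⟩

theorem Levi.A_eq {g : Sp B} {α : F} (hg : P.Levi g α) (ω : Ω) :
    (fixA hA P.v (g • ω) : Set F) = (fun c => α ^ 2 * c) '' (fixA hA P.v ω : Set F) := by
  have key : ∀ c, α ^ 2 * c ∈ fixA hA P.v (g • ω) ↔ c ∈ fixA hA P.v ω := fun c => by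
    rw [mem_fixA, mem_fixA, ← mul_smul, ← P.conj_tr_v hA g hg.v, mul_smul, smul_left_cancel_iff]
  ext c'
  constructor
  · intro h
    have hα : α ^ 2 ≠ 0 := pow_ne_zero 2 hg.ne_zero
    exact ⟨c' / α ^ 2, (key _).1 (by rwa [mul_div_cancel₀ _ hα]), mul_div_cancel₀ _ hα⟩
  · rintro ⟨c, hc, rfl⟩
    exact (key c).2 hc

theorem Levi.El_fix_iff {g : Sp B} {α : F} (hg : P.Levi g α) {w : V} (hw : w ∈ P.W) (a : F)
    (ω : Ω) : P.El hA (α • ap g w) (α ^ 2 * a) • g • ω = g • ω ↔ P.El hA w a • ω = ω := by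
  rw [← P.conj_El hA g hg.v (vw hw), ← mul_smul, inv_mul_cancel_right, mul_smul,
    smul_left_cancel_iff]

theorem Levi.W₀_eq {g : Sp B} {α : F} (hg : P.Levi g α) (ω : Ω) :
    (P.W₀ hA (g • ω) : Set V) = (fun w => α • ap g w) '' (P.W₀ hA ω : Set V) := by
  ext w'
  constructor
  · rintro ⟨hw', a', e⟩
    have h0 := hg.ne_zero
    set w := ap g⁻¹ (α⁻¹ • w') with hwdef
    have he : α • ap g w = w' := by rw [hwdef, ap_apply_inv, smul_inv_smul₀ h0]
    have hw : w ∈ P.W := (hg.W w).2 (by rw [hwdef, ap_apply_inv]; exact P.W.smul_mem _ hw')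
    refine ⟨w, ⟨hw, a' / α ^ 2, (hg.El_fix_iff hA hw _ ω).1 ?_⟩, he⟩
    rwa [he, mul_div_cancel₀ _ (pow_ne_zero 2 h0)]
  · rintro ⟨w, ⟨hw, a, e⟩, rfl⟩
    exact ⟨hg.map_mem hw, _, (hg.El_fix_iff hA hw a ω).2 e⟩

theorem K_W₀_eq {k : Sp B} (hk : k ∈ P.K hA) (ω : Ω) :
    (P.W₀ hA (k • ω) : Set V) = (⟨k, hk⟩ : P.K hA) • (P.W₀ hA ω : Set V) := by
  rw [(K_levi hA hk).W₀_eq hA]
  simp only [one_smul]
  rfl

theorem K_A_eq {k : Sp B} (hk : k ∈ P.K hA) (ω : Ω) :
    fixA hA P.v (k • ω) = fixA hA P.v ω := by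
  apply SetLike.coe_injective
  rw [(K_levi hA hk).A_eq hA]
  simp

variable (P)
variable [Finite F] [FiniteDimensional F V] (hB : B.Nondegenerate) [Finite Ω]
include hB

theorem card_orbit_Q {d : ℕ} (hd : Module.finrank F V = d + 2) (ω : Ω) :
    Nat.card F ^ (d + 1) ≤ (MulAction.orbit (P.Q hA) ω).ncard *
      (Nat.card (fixA hA P.v ω) * Nat.card (P.W₀ hA ω)) := by
  classical
  have : Finite V := Module.finite_of_finite F
  have : Finite (V ≃ₗ[F] V) := Finite.of_injective _ DFunLike.coe_injective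
  have : Fintype (P.Q hA) := Fintype.ofFinite _
  have : Fintype (MulAction.stabilizer (P.Q hA) ω) := Fintype.ofFinite _
  have : Fintype (MulAction.orbit (P.Q hA) ω) := Fintype.ofFinite _
  have h1 := MulAction.card_orbit_mul_card_stabilizer_eq_card_group (P.Q hA) ω
  rw [← Nat.card_eq_fintype_card, ← Nat.card_eq_fintype_card, ← Nat.card_eq_fintype_card,
    P.card_Q hA hB hd, Nat.card_coe_set_eq] at h1
  rw [← h1]
  refine Nat.mul_le_mul_left _ ?_
  rw [← Nat.card_prod]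
  have sec : ∀ w : P.W₀ hA ω, ∃ a, P.El hA w a • ω = ω := fun w => w.2.2
  choose sec hsec using sec
  have dec : ∀ s : MulAction.stabilizer (P.Q hA) ω,
      ∃ p : fixA hA P.v ω × P.W₀ hA ω, ((s : P.Q hA) : Sp B) =
        tr hA P.v (p.1 : F) * P.El hA p.2 (sec p.2) := by
    rintro ⟨⟨_, w, hw, a, rfl⟩, hs⟩
    have hfix : P.El hA w a • ω = ω := MulAction.mem_stabilizer_iff.1 hs
    let w₀ : P.W₀ hA ω := ⟨w, hw, a, hfix⟩
    have e : P.El hA w a = tr hA P.v (a - sec w₀) * P.El hA w (sec w₀) := by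
      rw [P.tr_mul_El hA (vw hw), sub_add_cancel]
    have hc : tr hA P.v (a - sec w₀) • ω = ω := by
      conv_rhs => rw [← hfix, e, mul_smul, hsec w₀]
    exact ⟨(⟨_, hc⟩, w₀), e⟩
  choose dec hdec using dec
  exact Nat.card_le_card_of_injective dec fun s t e =>
    Subtype.ext (Subtype.ext (by rw [hdec s, hdec t, e]))

/-- The counting bound from the conjugates of a family of orbits of one type. -/
theorem count {d : ℕ} (hd : Module.finrank F V = d + 2) (ω : Ω) {ι : Type*} [Finite ι]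
    (y : ι → Ω) (hA' : ∀ i, fixA hA P.v (y i) = fixA hA P.v ω)
    (hW' : ∀ i, P.W₀ hA (y i) = P.W₀ hA ω)
    (hy : ∀ i j, y j ∈ MulAction.orbit (P.Q hA) (y i) → i = j) :
    Nat.card ι * (cls (fixA hA P.v ω : Set F)).ncard *
        (MulAction.orbit (P.K hA) (P.W₀ hA ω : Set V)).ncard * Nat.card F ^ (d + 1) ≤
      Nat.card Ω * (Nat.card (fixA hA P.v ω) * Nat.card (P.W₀ hA ω)) := by
  classical
  rw [← Nat.card_coe_set_eq, ← Nat.card_coe_set_eq]
  have : Finite V := Module.finite_of_finite F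
  set C := cls (fixA hA P.v ω : Set F)
  set O := MulAction.orbit (P.K hA) (P.W₀ hA ω : Set V)
  have hcls : ∀ c : C, ∃ (g : Sp B) (α : F), P.Levi g α ∧
      c.1 = (fun c => α ^ 2 * c) '' (fixA hA P.v ω : Set F) ∧ ∀ w ∈ P.W, ap g w = w := by
    rintro ⟨_, μ, rfl⟩
    obtain ⟨g, hg, hgW, -⟩ := P.exists_torus hA μ.ne_zero
    exact ⟨g, μ, hg, rfl, hgW⟩
  choose g α hg hgc hgW using hcls
  have horb : ∀ t : O, ∃ k : P.K hA, k • (P.W₀ hA ω : Set V) = t := fun t => t.2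
  choose k hk using horb
  let x : ι × C × O → Ω := fun p => g p.2.1 • ((k p.2.2 : Sp B) • y p.1)
  set a := Nat.card (fixA hA P.v ω)
  set s := Nat.card (P.W₀ hA ω)
  have hxA : ∀ p, (fixA hA P.v (x p) : Set F) = p.2.1.1 := fun p => by
    simp only [x]
    rw [(hg p.2.1).A_eq hA, K_A_eq hA (k p.2.2).2, hA' p.1, hgc p.2.1]
  have hxW : ∀ p, (P.W₀ hA (x p) : Set V) = (fun w => α p.2.1 • w) '' p.2.2.1 := fun p => by
    simp only [x]
    rw [(hg p.2.1).W₀_eq hA, K_W₀_eq hA (k p.2.2).2, hW' p.1, Subtype.coe_eta, hk p.2.2]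
    refine Set.image_congr fun w hw => ?_
    rw [hgW p.2.1 w]
    rw [← hk p.2.2] at hw
    obtain ⟨w₁, hw₁, rfl⟩ := hw
    exact ((K_levi hA (k p.2.2).2).W w₁).1 hw₁.1
  have hq0 : 0 < Nat.card F ^ (d + 1) := Nat.pow_pos Nat.card_pos
  have has : ∀ p, Nat.card (fixA hA P.v (x p)) * Nat.card (P.W₀ hA (x p)) = a * s := fun p => by
    congr 1
    · show Nat.card (fixA hA P.v (x p) : Set F) = Nat.card (fixA hA P.v ω : Set F)
      rw [hxA, hgc]
      exact Nat.card_image_of_injective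
        (mul_right_injective₀ (pow_ne_zero 2 (hg p.2.1).ne_zero)) _
    · show Nat.card (P.W₀ hA (x p) : Set V) = Nat.card (P.W₀ hA ω : Set V)
      rw [hxW, Nat.card_image_of_injective (smul_right_injective V (hg p.2.1).ne_zero),
        ← hk p.2.2]
      exact Nat.card_image_of_injective (MulAction.injective (k p.2.2)) _
  obtain ⟨b, hb⟩ : ∃ b, b = (Nat.card F ^ (d + 1) + (a * s - 1)) / (a * s) := ⟨_, rfl⟩
  have has0 : 0 < a * s := Nat.mul_pos Nat.card_pos (by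
    have : Nonempty (P.W₀ hA ω) := ⟨0⟩
    exact Nat.card_pos)
  have hb' : ∀ p, b ≤ (MulAction.orbit (P.Q hA) (x p)).ncard := fun p => by
    rw [hb, Nat.div_le_iff_le_mul_add_pred has0]
    have := P.card_orbit_Q hA hB hd (x p)
    rw [has p] at this
    rw [mul_comm (a * s)]
    omega
  have h1 := sum_orbits_le (Γ := P.Q hA) x hb' (fun p r hr => by
    obtain ⟨u, hu⟩ := hr
    have e1 : (u : Sp B) • x p = x r := hu
    have hA1 : (fixA hA P.v (x r) : Set F) = fixA hA P.v (x p) := by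
      rw [← e1, P.A_orbit hA u.2]
    have hW1 : (P.W₀ hA (x r) : Set V) = P.W₀ hA (x p) := by rw [← e1, P.W₀_orbit hA u.2]
    rw [hxA, hxA] at hA1
    have hc : r.2.1 = p.2.1 := Subtype.ext hA1
    rw [hxW, hxW, hc] at hW1
    have ht : r.2.2 = p.2.2 := Subtype.ext
      ((smul_right_injective V (hg p.2.1).ne_zero).image_injective hW1)
    refine (Prod.ext ?_ (Prod.ext hc ht)).symm
    refine (hy p.1 r.1 ?_).symm
    have e2 : (u : Sp B) • g p.2.1 • (k p.2.2 : Sp B) • y p.1 =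
        g p.2.1 • (k p.2.2 : Sp B) • y r.1 := by
      have := e1
      simp only [x] at this
      rwa [hc, ht] at this
    have hL := (hg p.2.1).comp (K_levi hA (k p.2.2).2)
    rw [← mul_smul, ← mul_smul, ← mul_smul] at e2
    set h := g p.2.1 * (k p.2.2 : Sp B) with hh
    rw [mul_assoc, ← hh] at e2
    obtain ⟨w, hw, c, hu'⟩ := u.2
    set w' := ap h⁻¹ ((α p.2.1 * 1)⁻¹ • w) with hw'def
    have hw' : w' ∈ P.W :=
      (hL.W w').2 (by rw [hw'def, ap_apply_inv]; exact P.W.smul_mem _ hw)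
    refine ⟨⟨P.El hA w' (c / (α p.2.1 * 1) ^ 2), P.El_mem_Q hA hw' _⟩, ?_⟩
    show P.El hA w' (c / (α p.2.1 * 1) ^ 2) • y p.1 = y r.1
    refine smul_left_cancel h ?_
    rw [← mul_smul, ← e2]
    congr 1
    have := P.conj_El hA h hL.v (vw hw') (c / (α p.2.1 * 1) ^ 2)
    rw [mul_inv_eq_iff_eq_mul] at this
    rw [this, hu', hw'def, ap_apply_inv, smul_inv_smul₀ hL.ne_zero,
      mul_div_cancel₀ _ (pow_ne_zero 2 hL.ne_zero)])
  rw [Nat.card_prod, Nat.card_prod, ← mul_assoc] at h1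
  refine (Nat.mul_le_mul_left _ ?_).trans
    ((mul_assoc _ _ _).ge.trans (Nat.mul_le_mul_right (a * s) h1))
  rw [hb, mul_comm _ (a * s)]
  have := Nat.div_add_mod (Nat.card F ^ (d + 1) + (a * s - 1)) (a * s)
  have := Nat.mod_lt (Nat.card F ^ (d + 1) + (a * s - 1)) has0
  omega

end Pair

end CfsgLib.Classical.MinIndexPSp
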